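import Cfsg.Agent.Lib.KnownC.Pronormal.Wreath
import Cfsg.Agent.Lib.Classical.SL2Tori

/-!
Sylow `2`-subgroups in dimension two: elements of odd order normalising one are scalar.
-/

set_option autoImplicit false
set_option linter.style.haveILetI false
set_option linter.unusedSectionVars false
set_option linter.unusedDecidableInType false

namespace CfsgLib.KnownC.Pronormal

open Matrix

variable {K : Type*} [Field K] [Fintype K]

local notation "Gdet" => Matrix.GeneralLinearGroup.det
local notation "Mat" => Matrix (Fin 2) (Fin 2) K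

theorem traceless_of_sq_eq_neg_one {A : Mat} (hA : A * A = -1) {B : Mat} (hB : A * B ≠ B * A) :
    A 1 1 = -A 0 0 := by
  have h00 := congrFun (congrFun hA 0) 0
  have h01 := congrFun (congrFun hA 0) 1
  have h10 := congrFun (congrFun hA 1) 0
  have h11 := congrFun (congrFun hA 1) 1
  simp [Matrix.mul_apply, Fin.sum_univ_two] at h00 h01 h10 h11
  by_contra hne
  have ht : A 0 0 + A 1 1 ≠ 0 := fun h => hne (by linear_combination h)
  have e01 : A 0 1 = 0 :=
    (mul_eq_zero.1 (show A 0 1 * (A 0 0 + A 1 1) = 0 by linear_combination h01)).resolve_right ht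
  have e10 : A 1 0 = 0 :=
    (mul_eq_zero.1 (show A 1 0 * (A 0 0 + A 1 1) = 0 by linear_combination h10)).resolve_right ht
  have e : A 0 0 = A 1 1 := sub_eq_zero.1 <|
    (mul_eq_zero.1 (show (A 0 0 - A 1 1) * (A 0 0 + A 1 1) = 0 by linear_combination h00 - h11)).resolve_right ht
  refine hB ?_
  have hAs : A = A 1 1 • (1 : Mat) := by
    ext i j; fin_cases i <;> fin_cases j <;> simp [e01, e10, e]
  rw [hAs]
  simp

/-- The coordinates of the trace-free part. -/
def vec3 (A : Mat) : Fin 3 → K := ![A 0 0 - A 1 1, A 0 1, A 1 0]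

theorem vec3_cross_of_commute {A B : Mat} (h : A * B = B * A) (i j : Fin 3) :
    vec3 A i * vec3 B j = vec3 A j * vec3 B i := by
  have h00 := congrFun (congrFun h 0) 0
  have h01 := congrFun (congrFun h 0) 1
  have h10 := congrFun (congrFun h 1) 0
  simp [Matrix.mul_apply, Fin.sum_univ_two] at h00 h01 h10
  fin_cases i <;> fin_cases j <;> simp [vec3] <;>
    first
      | linear_combination h00 | linear_combination -h00
      | linear_combination h01 | linear_combination -h01
      | linear_combination h10 | linear_combination -h10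

theorem commute_of_vec3 {A B : Mat} (h : ∀ i j, vec3 A i * vec3 B j = vec3 A j * vec3 B i) : A * B = B * A := by
  have e1 := h 0 1
  have e2 := h 0 2
  have e3 := h 1 2
  simp [vec3] at e1 e2 e3
  ext i j
  fin_cases i <;> fin_cases j <;> simp [Matrix.mul_apply, Fin.sum_univ_two] <;>
    first
      | linear_combination e3 | linear_combination -e3
      | linear_combination e1 | linear_combination -e1
      | linear_combination e2 | linear_combination -e2

/-- A matrix commuting with two non-commuting matrices is scalar. -/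
theorem isScal_of_commute_two {A B M : Mat} (hAB : A * B ≠ B * A) (hA : M * A = A * M) (hB : M * B = B * M) :
    IsScal M := by
  by_cases h : vec3 M = 0
  · have e0 := congrFun h 0
    have e1 := congrFun h 1
    have e2 := congrFun h 2
    simp [vec3] at e0 e1 e2
    refine ⟨M 0 0, ?_⟩
    ext i j; fin_cases i <;> fin_cases j <;> simp [e1, e2, sub_eq_zero.1 e0]
  · obtain ⟨k, hk⟩ := Function.ne_iff.1 h
    refine absurd (commute_of_vec3 fun i j => ?_) hAB
    refine mul_left_cancel₀ hk ?_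
    linear_combination (vec3 B j) * vec3_cross_of_commute hA k i -
      (vec3 B i) * vec3_cross_of_commute hA k j + (vec3 A k) * vec3_cross_of_commute hB i j

omit [Fintype K] in
theorem perm_three_trivial : ∀ p s : Equiv.Perm (Fin 3),
    p * s = s * p → p ^ 3 = 1 → s ^ 2 = 1 → s ≠ 1 → p = 1 := by decide +kernel

theorem perm_three_six : ∀ p : Equiv.Perm (Fin 3), p ^ 6 = 1 := by decide +kernel

section Quat

variable {m : ℕ} [NeZero m]

open QuaternionGroup

theorem quat_pow_four_cases (g : QuaternionGroup m) : g ∈ Subgroup.zpowers (a 1 : QuaternionGroup m) ∨ g ^ 4 = 1 := by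
  rcases g with i | i
  · refine Or.inl ⟨(i.val : ℤ), ?_⟩
    show (a 1 : QuaternionGroup m) ^ (i.val : ℤ) = a i
    rw [zpow_natCast, a_one_pow, ZMod.natCast_zmod_val]
  · exact Or.inr (xa_pow_four i)

theorem quat_centralizer {g x : QuaternionGroup m} (hx : x ^ 4 ≠ 1) (h : g * x = x * g) :
    g ∈ Subgroup.zpowers (a 1 : QuaternionGroup m) := by
  obtain ⟨n, hn⟩ := (quat_pow_four_cases x).resolve_right hx
  rcases g with i | i
  · exact ⟨(i.val : ℤ), by
      show (a 1 : QuaternionGroup m) ^ (i.val : ℤ) = a i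
      rw [zpow_natCast, a_one_pow, ZMod.natCast_zmod_val]⟩
  · exfalso
    rcases x with j | j
    · rw [a_mul_xa, xa_mul_a, xa.injEq] at h
      apply hx
      have hjj : j + j = 0 := by linear_combination h
      rw [show (4 : ℕ) = 2 * 2 from rfl, pow_mul, pow_two (a j), a_mul_a, hjj]
      exact one_pow 2
    · exact hx (xa_pow_four j)

theorem quat_index_two {g h : QuaternionGroup m} (hg : g ∉ Subgroup.zpowers (a 1 : QuaternionGroup m))
    (hh : h ∉ Subgroup.zpowers (a 1 : QuaternionGroup m)) :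
    g⁻¹ * h ∈ Subgroup.zpowers (a 1 : QuaternionGroup m) := by
  have hz : ∀ i : ZMod (2 * m), a i ∈ Subgroup.zpowers (a 1 : QuaternionGroup m) := fun i =>
    ⟨(i.val : ℤ), by
      show (a 1 : QuaternionGroup m) ^ (i.val : ℤ) = a i
      rw [zpow_natCast, a_one_pow, ZMod.natCast_zmod_val]⟩
  rcases g with i | i
  · exact absurd (hz i) hg
  rcases h with j | j
  · exact absurd (hz j) hh
  rw [show (xa i : QuaternionGroup m)⁻¹ = xa ((m : ZMod (2 * m)) + i) from rfl, xa_mul_xa]
  exact hz _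

end Quat

theorem mem_normalizer_of_forall {G : Type*} [Group G] [Finite G] {A : Subgroup G} {g : G}
    (h : ∀ z ∈ A, g * z * g⁻¹ ∈ A) : g ∈ Subgroup.normalizer (A : Set G) :=
  Subgroup.mem_normalizer_iff_map_conj_eq.2 (Subgroup.eq_of_le_of_card_ge
    (by rintro _ ⟨z, hz, rfl⟩; exact h z hz)
    (Subgroup.card_map_of_injective (MulAut.conj g).injective).ge)

omit [Fintype K] in
theorem neg_one_sq_gl : ((-1 : GL (Fin 2) K)) * -1 = 1 := by rw [neg_one_mul, neg_neg]

/-- The dimension two case. -/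
theorem good_two (hodd : Odd (Fintype.card K)) (X : Subgroup (GL (Fin 2) K))
    {a b d : GL (Fin 2) K} (haX : a ∈ X) (hbX : b ∈ X) (hdX : d ∈ X)
    (ha : a * a = -1) (hb : b * b = -1) (hab : b * a = -(a * b))
    (hda : Gdet a = 1) (hdb : Gdet b = 1) (hd2 : ∃ k, d ^ 2 ^ k = 1)
    (hd : ∀ (e : K) (u : GL (Fin 2) K), u ∈ X → (u : Mat) = e • 1 → e ^ 2 ≠ (Gdet d : K)) : Good X := by
  classical
  haveI := Fact.mk Nat.prime_two
  have h2 : (2 : K) ≠ 0 := Ring.two_ne_zero (by
    intro h
    have := FiniteField.even_card_of_char_two h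
    rw [Nat.odd_iff] at hodd
    omega)
  obtain ⟨k, hdk⟩ := hd2
  have hneq : ∀ g : GL (Fin 2) K, g ≠ -g := ne_neg_self h2
  have hABne : (a : Mat) * b ≠ b * a := by
    intro h
    have h' : a * b = b * a := Units.ext h
    rw [hab] at h'
    exact hneq _ h'
  -- a Sylow subgroup containing the quaternion group
  let a' : X := ⟨a, haX⟩
  let b' : X := ⟨b, hbX⟩
  have ha4 : a ^ 2 ^ 2 = 1 := by
    rw [show (2 : ℕ) ^ 2 = 2 * 2 from rfl, pow_mul, pow_two a, ha, pow_two, neg_one_sq_gl]
  have hb4 : b ^ 2 ^ 2 = 1 := by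
    rw [show (2 : ℕ) ^ 2 = 2 * 2 from rfl, pow_mul, pow_two b, hb, pow_two, neg_one_sq_gl]
  have hpa : ∀ (z : X), (z : GL (Fin 2) K) ^ 2 ^ 2 = 1 → IsPGroup 2 (Subgroup.zpowers z) := by
    rintro z hz ⟨w, hw⟩
    obtain ⟨i, rfl⟩ := Subgroup.mem_zpowers_iff.1 hw
    refine ⟨2, Subtype.ext ?_⟩
    show (z ^ i) ^ 2 ^ 2 = 1
    rw [← zpow_natCast, ← _root_.zpow_mul, mul_comm, _root_.zpow_mul, zpow_natCast, show z ^ 2 ^ 2 = 1 from Subtype.ext hz,
      _root_.one_zpow]
  have hnb : Subgroup.zpowers b' ≤ Subgroup.normalizer ((Subgroup.zpowers a') : Set X) := by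
    rw [Subgroup.zpowers_le]
    have hconj : MulAut.conj b' a' = a'⁻¹ := by
      refine Subtype.ext ?_
      show b * a * b⁻¹ = a⁻¹
      rw [hab, neg_mul, mul_inv_cancel_right, eq_inv_iff_mul_eq_one, neg_mul, ha, neg_neg]
    refine Subgroup.mem_normalizer_iff.2 fun z => ⟨fun hz => ?_, fun hz => ?_⟩
    · obtain ⟨i, rfl⟩ := Subgroup.mem_zpowers_iff.1 hz
      rw [← MulAut.conj_apply, map_zpow, hconj]
      exact zpow_mem (inv_mem (Subgroup.mem_zpowers _)) _
    · obtain ⟨i, hi⟩ := Subgroup.mem_zpowers_iff.1 hz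
      refine ⟨-i, (MulAut.conj b').injective ?_⟩
      rw [MulAut.conj_apply b' z, map_zpow, hconj, _root_.inv_zpow, _root_.zpow_neg, inv_inv]
      exact hi
  obtain ⟨P, hP⟩ := ((hpa a' ha4).to_sup_of_normal_left' (hpa b' hb4) hnb).exists_le_sylow
  -- the element of non-square determinant, moved into it
  obtain ⟨P₁, hP₁⟩ : ∃ P₁ : Sylow 2 X, (⟨d, hdX⟩ : X) ∈ (P₁ : Subgroup X) := by
    obtain ⟨P₁, hP₁⟩ := IsPGroup.exists_le_sylow (p := 2) (P := Subgroup.zpowers (⟨d, hdX⟩ : X)) (by
      rintro ⟨w, hw⟩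
      obtain ⟨i, rfl⟩ := Subgroup.mem_zpowers_iff.1 hw
      refine ⟨k, Subtype.ext ?_⟩
      show ((⟨d, hdX⟩ : X) ^ i) ^ 2 ^ k = 1
      rw [← zpow_natCast, ← _root_.zpow_mul, mul_comm, _root_.zpow_mul, zpow_natCast,
        show (⟨d, hdX⟩ : X) ^ 2 ^ k = 1 from Subtype.ext hdk, _root_.one_zpow])
    exact ⟨P₁, hP₁ (Subgroup.mem_zpowers _)⟩
  obtain ⟨y, hy⟩ := MulAction.exists_smul_eq X P₁ P
  set S := (P : Subgroup X).map X.subtype with hS
  have haS : a ∈ S := ⟨a', hP (Subgroup.mem_sup_left (Subgroup.mem_zpowers a')), rfl⟩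
  have hbS : b ∈ S := ⟨b', hP (Subgroup.mem_sup_right (Subgroup.mem_zpowers b')), rfl⟩
  obtain ⟨s, hsS, hsdet⟩ : ∃ s ∈ S, Gdet s = Gdet d := by
    refine ⟨(y : GL (Fin 2) K) * d * (y : GL (Fin 2) K)⁻¹, ⟨y * ⟨d, hdX⟩ * y⁻¹, ?_, rfl⟩, ?_⟩
    · rw [← hy, Sylow.coe_subgroup_smul]
      exact ⟨_, hP₁, rfl⟩
    · rw [map_mul, map_mul, map_inv, mul_comm (Gdet (y : GL (Fin 2) K)), mul_inv_cancel_right]
  have hSX : S ≤ X := Subgroup.map_subtype_le _
  have hScard : Nat.card S = 2 ^ (Nat.card X).factorization 2 := by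
    rw [hS, Subgroup.card_map_of_injective Subtype.val_injective, P.card_eq_multiplicity]
  have hSp : ∀ g ∈ S, g ^ 2 ^ (Nat.card X).factorization 2 = 1 := fun g hg => by
    rw [← orderOf_dvd_iff_pow_eq_one, ← hScard]
    exact Subgroup.orderOf_dvd_natCard _ hg
  have hneg : -1 ∈ S := ha ▸ mul_mem haS haS
  have hscal : ∀ M : Mat, M * (a : Mat) = a * M → M * (b : Mat) = b * M → IsScal M := fun M =>
    isScal_of_commute_two hABne
  refine ⟨S, hSX, hScard, hneg, fun M hM => hscal M (hM a haS hda) (hM b hbS hdb), ?_⟩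
  intro g hgX hgo hgS
  suffices hfix : g * a * g⁻¹ = a ∧ g * b * g⁻¹ = b by
    exact hscal _ (congrArg Units.val (mul_inv_eq_iff_eq_mul.1 hfix.1))
      (congrArg Units.val (mul_inv_eq_iff_eq_mul.1 hfix.2))
  set Q := S ⊓ MonoidHom.ker Gdet with hQ
  have haQ : a ∈ Q := ⟨haS, hda⟩
  have hbQ : b ∈ Q := ⟨hbS, hdb⟩
  have hgQ : ∀ z ∈ Q, g * z * g⁻¹ ∈ Q := fun z hz => ⟨hgS z hz.1, by
    show Gdet (g * z * g⁻¹) = 1
    rw [map_mul, map_mul, map_inv, show Gdet z = 1 from hz.2, mul_one, mul_inv_cancel]⟩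
  -- the embedding in a quaternion group
  let toS : Q →* SpecialLinearGroup (Fin 2) K :=
    { toFun := fun z => ⟨(z.1 : Mat), congrArg Units.val z.2.2⟩
      map_one' := rfl
      map_mul' := fun _ _ => rfl }
  have htoS : Function.Injective toS := fun z w h =>
    Subtype.ext (Units.ext (congrArg Subtype.val h))
  have hQp : IsPGroup 2 Q := fun z => ⟨_, Subtype.ext (hSp z.1 z.2.1)⟩
  obtain ⟨R, hR⟩ := (IsPGroup.map (H := (⊤ : Subgroup Q)) (fun z => by
    obtain ⟨i, hi⟩ := hQp z.1
    exact ⟨i, Subtype.ext hi⟩) toS).exists_le_sylow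
  obtain ⟨m, -, -, ⟨e⟩⟩ := CfsgLib.Classical.sl2_sylow_two hodd R
  haveI : NeZero (2 ^ m) := ⟨pow_ne_zero _ two_ne_zero⟩
  let φ : Q →* QuaternionGroup (2 ^ m) := e.toMonoidHom.comp
    (toS.codRestrict (R : Subgroup (SpecialLinearGroup (Fin 2) K)) fun z => hR ⟨z, Subgroup.mem_top z, rfl⟩)
  have hφ : Function.Injective φ := e.injective.comp fun z w h => htoS (congrArg Subtype.val h)
  set Cz := Subgroup.zpowers (QuaternionGroup.a 1 : QuaternionGroup (2 ^ m)) with hCz
  by_cases hbig : ∃ x : Q, x ^ 4 ≠ 1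
  · -- a cyclic subgroup of index two is fixed
    obtain ⟨x, hx⟩ := hbig
    have hxφ : φ x ^ 4 ≠ 1 := fun h => hx (hφ (by rw [map_pow, h, map_one]))
    have hxC : φ x ∈ Cz := (quat_pow_four_cases (φ x)).resolve_right hxφ
    have hAc : ∀ z : Q, z * x = x * z ↔ φ z ∈ Cz := by
      refine fun z => ⟨fun h => quat_centralizer hxφ (by rw [← map_mul, h, map_mul]), fun h => hφ ?_⟩
      obtain ⟨i, hi⟩ := h
      obtain ⟨j, hj⟩ := hxC
      rw [map_mul, map_mul, ← hi, ← hj]
      exact (Commute.refl _).zpow_zpow i j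
    have hgx : ∀ z : Q, (⟨g * z.1 * g⁻¹, hgQ _ z.2⟩ : Q) ^ 4 = 1 ↔ z ^ 4 = 1 := by
      intro z
      rw [Subtype.ext_iff, Subtype.ext_iff]
      show (g * z.1 * g⁻¹) ^ 4 = 1 ↔ z.1 ^ 4 = 1
      rw [conj_pow, mul_inv_eq_one]
      exact mul_eq_left
    set A := Q ⊓ Subgroup.centralizer {(x : GL (Fin 2) K)} with hA
    have hAmem : ∀ z : Q, (z : GL (Fin 2) K) ∈ A ↔ φ z ∈ Cz := by
      intro z
      rw [← hAc z, Subtype.ext_iff]
      exact ⟨fun h => Subgroup.mem_centralizer_singleton_iff.1 h.2,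
        fun h => ⟨z.2, Subgroup.mem_centralizer_singleton_iff.2 h⟩⟩
    have hgA : ∀ z ∈ A, g * z * g⁻¹ ∈ A := by
      intro z hz
      refine (hAmem ⟨_, hgQ z hz.1⟩).2 (quat_centralizer (x := φ ⟨g * x.1 * g⁻¹, hgQ _ x.2⟩) ?_ ?_)
      · rw [← map_pow]
        exact fun h => hx ((hgx x).1 (hφ (by rw [h, map_one])))
      · rw [← map_mul, ← map_mul]
        congr 1
        refine Subtype.ext ?_
        show g * z * g⁻¹ * (g * x.1 * g⁻¹) = g * x.1 * g⁻¹ * (g * z * g⁻¹)
        have : z * x.1 = x.1 * z := Subgroup.mem_centralizer_singleton_iff.1 hz.2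
        calc _ = g * (z * x.1) * g⁻¹ := by group
          _ = _ := by rw [this]; group
    have hgN : g ∈ Subgroup.normalizer (A : Set (GL (Fin 2) K)) :=
      mem_normalizer_of_forall hgA
    haveI : IsCyclic A := by
      let f : A →* Cz :=
        { toFun := fun z => ⟨φ ⟨z.1, z.2.1⟩, (hAmem ⟨z.1, z.2.1⟩).1 z.2⟩
          map_one' := Subtype.ext (map_one φ)
          map_mul' := fun u v => Subtype.ext (map_mul φ ⟨u.1, u.2.1⟩ ⟨v.1, v.2.1⟩) }
      refine isCyclic_of_injective f fun u v h => ?_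
      exact Subtype.ext (congrArg (fun z : Q => (z : GL (Fin 2) K)) (hφ (congrArg Subtype.val h)))
    have hAp : IsPGroup 2 A := hQp.to_le inf_le_left
    have hθ : Subgroup.normalizerMonoidHom A ⟨g, hgN⟩ = 1 :=
      mulAut_eq_one_of_cyclic hAp _ hgo (by
        rw [← map_pow, show (⟨g, hgN⟩ : Subgroup.normalizer (A : Set (GL (Fin 2) K))) ^ orderOf g = 1 from
          Subtype.ext (pow_orderOf_eq_one g), map_one])
    have hfixA : ∀ z ∈ A, g * z * g⁻¹ = z := fun z hz => by
      have := congrArg Subtype.val (DFunLike.congr_fun hθ (⟨z, hz⟩ : A))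
      exact this
    have hfix : ∀ z ∈ Q, g * z * g⁻¹ = z := by
      intro z hz
      by_cases h : z ∈ A
      · exact hfixA z h
      by_cases h' : g * z * g⁻¹ ∈ A
      · exact mul_left_cancel (mul_right_cancel (hfixA _ h'))
      set w := z⁻¹ * (g * z * g⁻¹) with hw
      have hwA : w ∈ A := by
        refine (hAmem ((⟨z, hz⟩ : Q)⁻¹ * ⟨_, hgQ z hz⟩)).2 ?_
        rw [map_mul, map_inv]
        exact quat_index_two (fun hc => h ((hAmem ⟨z, hz⟩).2 hc)) (fun hc => h' ((hAmem ⟨_, hgQ z hz⟩).2 hc))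
      have hk : ∀ i : ℕ, g ^ i * z * (g ^ i)⁻¹ = z * w ^ i := by
        intro i
        induction i with
        | zero => simp
        | succ i ih =>
          have hgw : g * w ^ i * g⁻¹ = w ^ i := hfixA _ (pow_mem hwA i)
          calc g ^ (i + 1) * z * (g ^ (i + 1))⁻¹ = g * (g ^ i * z * (g ^ i)⁻¹) * g⁻¹ := by
                rw [pow_succ' g i]; group
            _ = g * z * g⁻¹ * (g * w ^ i * g⁻¹) := by rw [ih]; group
            _ = z * w ^ (i + 1) := by
              rw [hgw, show g * z * g⁻¹ = z * w from (mul_inv_cancel_left _ _).symm, pow_succ', mul_assoc]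
      have h1 := hk (orderOf g)
      rw [pow_orderOf_eq_one, one_mul, inv_one, mul_one, left_eq_mul] at h1
      have h3 := pow_gcd_eq_one.2 ⟨hSp w hwA.1.1, h1⟩
      rw [(Nat.Coprime.pow_left _ hgo.coprime_two_left).gcd_eq_one, pow_one, hw, inv_mul_eq_one] at h3
      exact h3.symm
    exact ⟨hfix a haQ, hfix b hbQ⟩
  · -- the quaternion group of order eight
    push Not at hbig
    have hQ8 : Nat.card Q ≤ 8 := by
      let A : Subgroup Q := Cz.comap φ
      haveI : IsCyclic A := by
        let f : A →* Cz :=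
          { toFun := fun z => ⟨φ z.1, z.2⟩
            map_one' := Subtype.ext (map_one φ)
            map_mul' := fun u v => Subtype.ext (map_mul φ u.1 v.1) }
        exact isCyclic_of_injective f fun u v h => Subtype.ext (hφ (congrArg Subtype.val h))
      have hA4 : Nat.card A ≤ 4 := by
        obtain ⟨c, hc⟩ := IsCyclic.exists_generator (α := A)
        rw [← orderOf_eq_card_of_forall_mem_zpowers hc]
        exact Nat.le_of_dvd (by norm_num) (orderOf_dvd_of_pow_eq_one (Subtype.ext (hbig c.1)))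
      by_cases hall : ∀ z : Q, φ z ∈ Cz
      · have : A = ⊤ := eq_top_iff.2 fun z _ => hall z
        rw [this, Subgroup.card_top] at hA4
        omega
      push Not at hall
      obtain ⟨y0, hy0⟩ := hall
      let f : Q → Bool × A := fun z =>
        if h : φ z ∈ Cz then (true, ⟨z, h⟩) else (false, ⟨y0⁻¹ * z, by
          show φ (y0⁻¹ * z) ∈ Cz
          rw [map_mul, map_inv]
          exact quat_index_two hy0 h⟩)
      have hf : Function.Injective f := by
        intro u v h
        simp only [f] at h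
        split at h <;> split at h <;> simp only [Prod.mk.injEq, Bool.true_eq_false, Bool.false_eq_true,
          false_and, true_and, Subtype.mk.injEq] at h
        · exact congrArg Subtype.val h
        · exact mul_left_cancel h
      refine (Nat.card_le_card_of_injective f hf).trans ?_
      rw [Nat.card_prod, Nat.card_eq_fintype_card, Fintype.card_bool]
      omega
    let el : Fin 4 → GL (Fin 2) K := ![1, a, b, a * b]
    let val : Bool × Fin 4 → GL (Fin 2) K := fun x => if x.1 then -el x.2 else el x.2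
    have hel : ∀ i, el i ∈ Q := by
      intro i; fin_cases i
      · exact one_mem _
      · exact haQ
      · exact hbQ
      · exact mul_mem haQ hbQ
    have hnQ : -1 ∈ Q := ha ▸ mul_mem haQ haQ
    have hval : ∀ x, val x ∈ Q := by
      rintro ⟨u, i⟩
      cases u
      · exact hel i
      · show -el i ∈ Q
        rw [← neg_one_mul]
        exact mul_mem hnQ (hel i)
    have hcab : ¬ Commute a b := fun h => hABne (congrArg Units.val h)
    have hne : ∀ i j, el i = el j ∨ el i = -el j → i = j := by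
      have n1 : a ≠ 1 ∧ a ≠ -1 := ⟨fun h => hcab (h ▸ Commute.one_left b),
        fun h => hcab (h ▸ (Commute.one_left b).neg_left)⟩
      have n2 : b ≠ 1 ∧ b ≠ -1 := ⟨fun h => hcab (h ▸ Commute.one_right a),
        fun h => hcab (h ▸ (Commute.one_right a).neg_right)⟩
      have n3 : a ≠ b ∧ a ≠ -b := ⟨fun h => hcab (h ▸ Commute.refl b),
        fun h => hcab (h ▸ (Commute.refl b).neg_left)⟩
      have n4 : a * b ≠ 1 ∧ a * b ≠ -1 := by
        refine ⟨fun h => hcab ?_, fun h => hcab ?_⟩
        · rw [eq_inv_of_mul_eq_one_left h]; exact (Commute.refl b).inv_left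
        · have : a = -b⁻¹ := by rw [eq_mul_inv_of_mul_eq h, neg_one_mul]
          rw [this]; exact (Commute.refl b).inv_left.neg_left
      have n5 : a * b ≠ a ∧ a * b ≠ -a := ⟨fun h => n2.1 (mul_eq_left.1 h),
        fun h => n2.2 (mul_left_cancel (h.trans (mul_neg_one a).symm))⟩
      have n6 : a * b ≠ b ∧ a * b ≠ -b := ⟨fun h => n1.1 (mul_eq_right.1 h),
        fun h => n1.2 (mul_right_cancel (h.trans (neg_one_mul b).symm))⟩
      have key : ∀ i j, i < j → el j ≠ el i ∧ el j ≠ -el i := by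
        intro i j hij
        fin_cases i <;> fin_cases j <;> simp at hij ⊢ <;>
          first
            | exact n1 | exact n2 | exact n4 | exact n5 | exact n6
            | exact ⟨n3.1.symm, fun h => n3.2 (by
                change b = -a at h
                rw [h, neg_neg])⟩
      intro i j h
      rcases lt_trichotomy i j with hij | hij | hij
      · rcases h with h | h
        · exact absurd h.symm (key i j hij).1
        · exact absurd (by rw [h, neg_neg]) (key i j hij).2
      · exact hij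
      · rcases h with h | h
        · exact absurd h (key j i hij).1
        · exact absurd h (key j i hij).2
    have hvinj : Function.Injective (fun x => (⟨val x, hval x⟩ : Q)) := by
      rintro ⟨u, i⟩ ⟨v, j⟩ h
      have h' : val (u, i) = val (v, j) := congrArg Subtype.val h
      cases u <;> cases v <;> simp only [val, Bool.false_eq_true, if_false, if_true] at h'
      · rw [hne i j (Or.inl h')]
      · obtain rfl := hne i j (Or.inr h')
        exact absurd h' (hneq _)
      · obtain rfl := hne i j (Or.inr (by rw [← h', neg_neg]))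
        exact absurd h'.symm (hneq _)
      · rw [hne i j (Or.inl (neg_inj.1 h'))]
    have hsurj : ∀ z ∈ Q, ∃ u i, z = val (u, i) := by
      intro z hz
      haveI := Fintype.ofFinite Q
      have hbij := hvinj.bijective_of_nat_card_le (by
        rw [Nat.card_prod, Nat.card_eq_fintype_card, Nat.card_eq_fintype_card, Fintype.card_bool, Nat.card_fin]
        rw [← Nat.card_eq_fintype_card]
        exact hQ8)
      obtain ⟨⟨u, i⟩, hui⟩ := hbij.2 ⟨z, hz⟩
      exact ⟨u, i, (congrArg Subtype.val hui).symm⟩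
    let ax : Fin 3 → GL (Fin 2) K := fun i => el i.succ
    have haxinj : ∀ i j, ax i = ax j ∨ ax i = -ax j → i = j := fun i j h => Fin.succ_injective _ (hne _ _ h)
    have hab_a : a * b * a = b := by rw [mul_assoc, hab, mul_neg, ← mul_assoc, ha, neg_one_mul, neg_neg]
    have hrel : ∀ h : GL (Fin 2) K, (∀ z ∈ Q, h * z * h⁻¹ ∈ Q) → ∃ p : Equiv.Perm (Fin 3),
        ∀ i, h * ax i * h⁻¹ = ax (p i) ∨ h * ax i * h⁻¹ = -ax (p i) := by
      intro h hh
      have hex : ∀ i, ∃ j, h * ax i * h⁻¹ = ax j ∨ h * ax i * h⁻¹ = -ax j := by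
        intro i
        obtain ⟨u, k, hk⟩ := hsurj _ (hh _ (hel i.succ))
        rcases Fin.eq_zero_or_eq_succ k with rfl | ⟨j, rfl⟩
        · exfalso
          have hel0 : el 0 = 1 := rfl
          cases u <;> simp only [val, Bool.false_eq_true, if_false, if_true, hel0] at hk
          · exact Fin.succ_ne_zero i (hne i.succ 0 (Or.inl (conj_eq_one_iff.1 hk)))
          · refine Fin.succ_ne_zero i (hne i.succ 0 (Or.inr ?_))
            rw [mul_inv_eq_iff_eq_mul, neg_one_mul, ← mul_neg_one] at hk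
            exact mul_left_cancel hk
        · refine ⟨j, ?_⟩
          cases u <;> simp only [val, Bool.false_eq_true, if_false, if_true] at hk
          · exact Or.inl hk
          · exact Or.inr hk
      choose f hf using hex
      have hfi : Function.Injective f := by
        intro i j e
        apply haxinj
        have h1 := hf i
        have h2 := hf j
        rw [e] at h1
        rcases h1 with h1 | h1 <;> rcases h2 with h2 | h2
        · exact Or.inl (mul_left_cancel (mul_right_cancel (h1.trans h2.symm)))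
        · refine Or.inr (mul_left_cancel (a := h) (mul_right_cancel (b := h⁻¹) ?_))
          rw [mul_neg, neg_mul, h1, h2, neg_neg]
        · refine Or.inr (mul_left_cancel (a := h) (mul_right_cancel (b := h⁻¹) ?_))
          rw [mul_neg, neg_mul, h1, h2]
        · exact Or.inl (mul_left_cancel (mul_right_cancel (h1.trans h2.symm)))
      exact ⟨Equiv.ofBijective f ⟨hfi, Finite.injective_iff_surjective.1 hfi⟩, hf⟩
    have huniq : ∀ h : GL (Fin 2) K, ∀ p r : Equiv.Perm (Fin 3),
        (∀ i, h * ax i * h⁻¹ = ax (p i) ∨ h * ax i * h⁻¹ = -ax (p i)) →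
        (∀ i, h * ax i * h⁻¹ = ax (r i) ∨ h * ax i * h⁻¹ = -ax (r i)) → p = r := by
      intro h p r h1 h2
      refine Equiv.ext fun i => haxinj _ _ ?_
      rcases h1 i with e1 | e1 <;> rcases h2 i with e2 | e2
      · exact Or.inl (e1.symm.trans e2)
      · exact Or.inr (e1.symm.trans e2)
      · exact Or.inr (by rw [← e1.symm.trans e2, neg_neg])
      · exact Or.inl (neg_inj.1 (e1.symm.trans e2))
    have hcomp : ∀ h h' : GL (Fin 2) K, ∀ p p' : Equiv.Perm (Fin 3),
        (∀ i, h * ax i * h⁻¹ = ax (p i) ∨ h * ax i * h⁻¹ = -ax (p i)) →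
        (∀ i, h' * ax i * h'⁻¹ = ax (p' i) ∨ h' * ax i * h'⁻¹ = -ax (p' i)) →
        ∀ i, h * h' * ax i * (h * h')⁻¹ = ax ((p * p') i) ∨ h * h' * ax i * (h * h')⁻¹ = -ax ((p * p') i) := by
      intro h h' p p' h1 h2 i
      rw [show h * h' * ax i * (h * h')⁻¹ = h * (h' * ax i * h'⁻¹) * h⁻¹ by group, Equiv.Perm.mul_apply]
      rcases h2 i with e2 | e2 <;> rcases h1 (p' i) with e1 | e1 <;> rw [e2]
      · exact Or.inl e1
      · exact Or.inr e1
      · exact Or.inr (by rw [mul_neg, neg_mul, e1])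
      · exact Or.inl (by rw [mul_neg, neg_mul, e1, neg_neg])
    have hone : ∀ i, (1 : GL (Fin 2) K) * ax i * 1⁻¹ = ax ((1 : Equiv.Perm (Fin 3)) i) ∨
        (1 : GL (Fin 2) K) * ax i * 1⁻¹ = -ax ((1 : Equiv.Perm (Fin 3)) i) := fun i => Or.inl (by simp)
    have hpow : ∀ h : GL (Fin 2) K, ∀ p : Equiv.Perm (Fin 3),
        (∀ i, h * ax i * h⁻¹ = ax (p i) ∨ h * ax i * h⁻¹ = -ax (p i)) → ∀ n : ℕ,
        ∀ i, h ^ n * ax i * (h ^ n)⁻¹ = ax ((p ^ n) i) ∨ h ^ n * ax i * (h ^ n)⁻¹ = -ax ((p ^ n) i) := by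
      intro h p hp n
      induction n with
      | zero => simpa using hone
      | succ n ih => rw [pow_succ, pow_succ]; exact hcomp _ _ _ _ ih hp
    have hQinner : ∀ z ∈ Q, ∀ i, z * ax i * z⁻¹ = ax i ∨ z * ax i * z⁻¹ = -ax i := by
      have ea : ∀ i, a * ax i * a⁻¹ = ax i ∨ a * ax i * a⁻¹ = -ax i := by
        intro i
        fin_cases i
        · exact Or.inl (mul_inv_cancel_right a a)
        · refine Or.inr (mul_inv_eq_iff_eq_mul.2 ?_)
          show a * b = -b * a
          rw [neg_mul, hab, neg_neg]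
        · refine Or.inr (mul_inv_eq_iff_eq_mul.2 ?_)
          show a * (a * b) = -(a * b) * a
          rw [neg_mul, hab_a, ← mul_assoc, ha, neg_one_mul]
      have eb : ∀ i, b * ax i * b⁻¹ = ax i ∨ b * ax i * b⁻¹ = -ax i := by
        intro i
        fin_cases i
        · exact Or.inr (mul_inv_eq_iff_eq_mul.2 (by show b * a = -a * b; rw [neg_mul, hab]))
        · exact Or.inl (mul_inv_cancel_right b b)
        · refine Or.inr (mul_inv_eq_iff_eq_mul.2 ?_)
          show b * (a * b) = -(a * b) * b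
          rw [neg_mul, ← mul_assoc, hab, neg_mul]
      have ra : ∀ i, a * ax i * a⁻¹ = ax ((1 : Equiv.Perm (Fin 3)) i) ∨
          a * ax i * a⁻¹ = -ax ((1 : Equiv.Perm (Fin 3)) i) := ea
      have rb : ∀ i, b * ax i * b⁻¹ = ax ((1 : Equiv.Perm (Fin 3)) i) ∨
          b * ax i * b⁻¹ = -ax ((1 : Equiv.Perm (Fin 3)) i) := eb
      intro z hz i
      obtain ⟨u, k, rfl⟩ := hsurj z hz
      have he : ∀ j, el k * ax j * (el k)⁻¹ = ax j ∨ el k * ax j * (el k)⁻¹ = -ax j := by
        fin_cases k
        · exact hone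
        · exact ea
        · exact eb
        · exact hcomp a b 1 1 ra rb
      cases u
      · exact he i
      · show -el k * ax i * (-el k)⁻¹ = ax i ∨ -el k * ax i * (-el k)⁻¹ = -ax i
        rw [inv_neg, neg_mul, neg_mul, mul_neg, neg_neg]
        exact he i
    obtain ⟨pg, hpg⟩ := hrel g hgQ
    obtain ⟨ps, hps⟩ := hrel s fun z hz => ⟨show s * z * s⁻¹ ∈ S from mul_mem (mul_mem hsS hz.1) (inv_mem hsS), by
      show Gdet (s * z * s⁻¹) = 1
      rw [map_mul, map_mul, map_inv, show Gdet z = 1 from hz.2, mul_one, mul_inv_cancel]⟩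
    have hcom : pg * ps = ps * pg := by
      have hyQ : s * g * s⁻¹ * g⁻¹ ∈ Q := by
        refine ⟨?_, ?_⟩
        · have := mul_mem hsS (hgS s⁻¹ (inv_mem hsS))
          simpa [mul_assoc] using this
        · show Gdet (s * g * s⁻¹ * g⁻¹) = 1
          simp [mul_comm]
      have h1 := hcomp s g ps pg hps hpg
      have h2 := hcomp _ _ 1 (pg * ps) (fun i => hQinner _ hyQ i) (hcomp g s pg ps hpg hps)
      rw [one_mul, show s * g * s⁻¹ * g⁻¹ * (g * s) = s * g by group] at h2
      exact huniq _ _ _ h2 h1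
    have hpg3 : pg ^ 3 = 1 := by
      have h1 := huniq _ _ 1 (hpow g pg hpg (orderOf g)) (by rw [pow_orderOf_eq_one]; exact hone)
      have h2 := pow_gcd_eq_one.2 ⟨h1, perm_three_six pg⟩
      have h3 : Nat.gcd (orderOf g) 6 ∣ 3 :=
        (Nat.Coprime.coprime_dvd_left (Nat.gcd_dvd_left _ _) hgo.coprime_two_right).dvd_of_dvd_mul_left
          (show Nat.gcd (orderOf g) 6 ∣ 2 * 3 from Nat.gcd_dvd_right _ _)
      obtain ⟨c, hc⟩ := h3
      have h4 := congrArg (fun x => x ^ c) h2
      simp only [← pow_mul, ← hc, one_pow] at h4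
      exact h4
    have hps2 : ps ^ 2 = 1 := by
      have h1 := huniq _ _ 1 (hpow s ps hps (2 ^ (Nat.card X).factorization 2)) (by rw [hSp s hsS]; exact hone)
      have h2 := pow_gcd_eq_one.2 ⟨h1, perm_three_six ps⟩
      have h3 : Nat.gcd (2 ^ (Nat.card X).factorization 2) 6 ∣ 2 := by
        have hc : Nat.Coprime (Nat.gcd (2 ^ (Nat.card X).factorization 2) 6) 3 :=
          Nat.Coprime.coprime_dvd_left (Nat.gcd_dvd_left _ _) (Nat.Coprime.pow_left _ (by norm_num))
        exact hc.dvd_of_dvd_mul_right (show _ ∣ 2 * 3 from Nat.gcd_dvd_right _ _)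
      obtain ⟨c, hc⟩ := h3
      have h4 := congrArg (fun x => x ^ c) h2
      simp only [← pow_mul, ← hc, one_pow] at h4
      exact h4
    have hps1 : ps ≠ 1 := by
      rintro rfl
      have h0 : s * a * s⁻¹ = a ∨ s * a * s⁻¹ = -a := hps 0
      have h1 : s * b * s⁻¹ = b ∨ s * b * s⁻¹ = -b := hps 1
      obtain ⟨z, hz, hza, hzb⟩ : ∃ z ∈ Q, z * a * z⁻¹ = s * a * s⁻¹ ∧ z * b * z⁻¹ = s * b * s⁻¹ := by
        have cba : b * a * b⁻¹ = -a := mul_inv_eq_iff_eq_mul.2 (by rw [neg_mul, hab])
        have cab : a * b * a⁻¹ = -b := mul_inv_eq_iff_eq_mul.2 (by rw [neg_mul, hab, neg_neg])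
        rcases h0 with e0 | e0 <;> rcases h1 with e1 | e1 <;> rw [e0, e1]
        · exact ⟨1, one_mem _, by simp, by simp⟩
        · exact ⟨a, haQ, mul_inv_cancel_right a a, cab⟩
        · exact ⟨b, hbQ, cba, mul_inv_cancel_right b b⟩
        · refine ⟨a * b, mul_mem haQ hbQ, ?_, ?_⟩
          · rw [show a * b * a * (a * b)⁻¹ = a * (b * a * b⁻¹) * a⁻¹ by group, cba]
            simp [mul_assoc]
          · rw [show a * b * b * (a * b)⁻¹ = a * b * a⁻¹ by group, cab]
      have hu : ∀ c, z * c * z⁻¹ = s * c * s⁻¹ → (z⁻¹ * s) * c = c * (z⁻¹ * s) := by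
        intro c hc
        calc z⁻¹ * s * c = z⁻¹ * (s * c * s⁻¹) * s := by group
          _ = _ := by rw [← hc]; group
      obtain ⟨e, he⟩ := hscal ((z⁻¹ * s : GL (Fin 2) K) : Mat)
        (congrArg Units.val (hu a hza)) (congrArg Units.val (hu b hzb))
      refine hd e (z⁻¹ * s) (mul_mem (inv_mem (hSX hz.1)) (hSX hsS)) he ?_
      have h2 : Gdet (z⁻¹ * s) = Gdet d := by rw [map_mul, map_inv, show Gdet z = 1 from hz.2, inv_one, one_mul, hsdet]
      rw [← h2, Matrix.GeneralLinearGroup.val_det_apply, he, det_smul, det_one, mul_one, Fintype.card_fin]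
    obtain rfl := perm_three_trivial pg ps hcom hpg3 hps2 hps1
    have hfin : ∀ i, g * ax i * g⁻¹ = ax i := by
      intro i
      refine (hpg i).resolve_right fun hneg' => ?_
      have hneg'' : g * ax i * g⁻¹ = -ax i := hneg'
      have hk : ∀ n : ℕ, g ^ n * ax i * (g ^ n)⁻¹ = if Even n then ax i else -ax i := by
        intro n
        induction n with
        | zero => simp
        | succ n ih =>
          rw [pow_succ', _root_.mul_inv_rev, show g * g ^ n * ax i * ((g ^ n)⁻¹ * g⁻¹) = g * (g ^ n * ax i * (g ^ n)⁻¹) * g⁻¹ by group, ih]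
          rcases Nat.even_or_odd n with he | ho
          · rw [if_pos he, if_neg (by simpa [Nat.even_add_one] using he), hneg'']
          · rw [if_neg (Nat.not_even_iff_odd.2 ho), if_pos (by simpa [Nat.even_add_one] using Nat.not_even_iff_odd.2 ho),
              mul_neg, neg_mul, hneg'', neg_neg]
      have h := hk (orderOf g)
      rw [pow_orderOf_eq_one, if_neg (Nat.not_even_iff_odd.2 hgo), one_mul, inv_one, mul_one] at h
      exact hneq _ h
    exact ⟨hfin 0, hfin 1⟩

end CfsgLib.KnownC.Pronormal
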