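import Mathlib
import Cfsg.Prelude.Def_HallClasses

/-!
Pronormality of overgroups of Sylow subgroups, and self-normalising Sylow subgroups.
-/

set_option autoImplicit false
set_option linter.style.haveILetI false

namespace CfsgLib.KnownC.Pronormal

open Subgroup MulAction Pointwise

variable {G : Type*} [Group G] [Finite G]

/-- An odd index subgroup is pronormal if the normaliser of a Sylow subgroup in it normalises it. -/
theorem isPronormal_of_normalizer_le (H : Subgroup G) (hH : Odd H.index)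
    (key : ∀ S : Sylow 2 G, (S : Subgroup G) ≤ H →
      normalizer ((S : Subgroup G) : Set G) ≤ normalizer (H : Set G)) : Cfsg.IsPronormal H := by
  classical
  haveI := Fact.mk Nat.prime_two
  obtain ⟨S₀⟩ : Nonempty (Sylow 2 H) := inferInstance
  obtain ⟨S, hS⟩ : ∃ S : Sylow 2 G, (S : Subgroup G) = (S₀ : Subgroup H).map H.subtype := by
    refine ⟨(S₀.isPGroup'.map H.subtype).toSylow ?_, rfl⟩
    rw [Subgroup.index_map_subtype, Nat.prime_two.dvd_mul]
    rintro (h | h)
    · exact S₀.not_dvd_index h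
    · exact (Nat.not_even_iff_odd.mpr hH) (even_iff_two_dvd.mpr h)
  have hSH : (S : Subgroup G) ≤ H := hS ▸ Subgroup.map_subtype_le _
  intro g
  set J := H ⊔ H.map (MulAut.conj g).toMonoidHom
  have hSJ : (S : Subgroup G) ≤ J := hSH.trans le_sup_left
  have hgSJ : ((g • S : Sylow 2 G) : Subgroup G) ≤ J := by
    refine le_trans ?_ (le_sup_right : H.map (MulAut.conj g).toMonoidHom ≤ J)
    rw [Sylow.coe_subgroup_smul]
    rintro _ ⟨w, hw, rfl⟩
    exact ⟨w, hSH hw, rfl⟩
  obtain ⟨y, hy⟩ := MulAction.exists_smul_eq J (S.subtype hSJ) ((g • S).subtype hgSJ)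
  rw [Sylow.smul_subtype] at hy
  have hy' : (y : G) • S = g • S := Sylow.subtype_injective hy
  refine ⟨y, y.2, ?_⟩
  have h1 : (y : G)⁻¹ * g ∈ Subgroup.normalizer ((S : Subgroup G) : Set G) :=
    Sylow.smul_eq_iff_mem_normalizer.mp (by rw [mul_smul, ← hy', inv_smul_smul])
  have h2 := key S hSH h1
  ext w
  constructor
  · rintro ⟨u, hu, rfl⟩
    refine ⟨((y : G)⁻¹ * g) * u * ((y : G)⁻¹ * g)⁻¹, (Subgroup.mem_normalizer_iff.mp h2 u).mp hu, ?_⟩
    show (y : G) * _ * (y : G)⁻¹ = g * u * g⁻¹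
    group
  · rintro ⟨u, hu, rfl⟩
    refine ⟨((y : G)⁻¹ * g)⁻¹ * u * ((y : G)⁻¹ * g), (Subgroup.mem_normalizer_iff''.mp h2 u).mp hu, ?_⟩
    show g * _ * g⁻¹ = (y : G) * u * (y : G)⁻¹
    group

theorem isPronormal_of_self_normalizing (H : Subgroup G) (hH : Odd H.index)
    (h : ∀ S : Sylow 2 G, normalizer ((S : Subgroup G) : Set G) = (S : Subgroup G)) :
    Cfsg.IsPronormal H :=
  isPronormal_of_normalizer_le H hH fun S hS => by
    rw [h S]; exact hS.trans Subgroup.le_normalizer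

/-- A `p`-element normalising a Sylow `p`-subgroup lies in it. -/
theorem mem_of_mem_normalizer {p : ℕ} [Fact p.Prime] (P : Sylow p G) {g : G}
    (hg : g ∈ normalizer ((P : Subgroup G) : Set G)) {k : ℕ} (hk : g ^ p ^ k = 1) :
    g ∈ (P : Subgroup G) := by
  have hz : IsPGroup p (zpowers g) := by
    rintro ⟨z, hz⟩
    obtain ⟨m, rfl⟩ := mem_zpowers_iff.1 hz
    refine ⟨k, Subtype.ext ?_⟩
    show (g ^ m) ^ p ^ k = 1
    rw [← zpow_natCast, ← zpow_mul, mul_comm, zpow_mul, zpow_natCast, hk, one_zpow]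
  have h := hz.to_sup_of_normal_right' P.isPGroup' (zpowers_le.2 hg)
  exact (P.is_maximal' h le_sup_right).le (mem_sup_left (mem_zpowers g))

theorem normalizer_eq_self (P : Sylow 2 G)
    (h : ∀ g ∈ normalizer ((P : Subgroup G) : Set G), Odd (orderOf g) → g = 1) :
    normalizer ((P : Subgroup G) : Set G) = (P : Subgroup G) := by
  haveI := Fact.mk Nat.prime_two
  refine le_antisymm (fun g hg => ?_) le_normalizer
  obtain ⟨k, m, hm, hkm⟩ := Nat.exists_eq_two_pow_mul_odd (orderOf_pos g).ne'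
  refine mem_of_mem_normalizer P hg (k := k) (h _ (pow_mem hg _) ?_)
  rw [orderOf_pow, hkm, Nat.gcd_eq_right (dvd_mul_right _ _), Nat.mul_div_cancel_left _ (Nat.two_pow_pos k)]
  exact hm

theorem normalizer_eq_self_of_surjective {H : Type*} [Group H] {f : G →* H} (hf : Function.Surjective f)
    {p : ℕ} [Fact p.Prime] (h : ∀ P : Sylow p G, normalizer ((P : Subgroup G) : Set G) = (P : Subgroup G))
    (Q : Sylow p H) : normalizer ((Q : Subgroup H) : Set H) = (Q : Subgroup H) := by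
  obtain ⟨P, rfl⟩ := Sylow.mapSurjective_surjective hf p Q
  rw [Sylow.coe_mapSurjective]
  refine le_antisymm (fun y hy => ?_) le_normalizer
  obtain ⟨x, rfl⟩ := hf y
  set L := ((P : Subgroup G).map f).comap f
  have hPL : (P : Subgroup G) ≤ L := le_comap_map f _
  have hxL : ((x • P : Sylow p G) : Subgroup G) ≤ L := by
    rw [Sylow.coe_subgroup_smul]
    rintro _ ⟨w, hw, rfl⟩
    show f (x * w * x⁻¹) ∈ (P : Subgroup G).map f
    rw [map_mul, map_mul, map_inv]
    exact (mem_normalizer_iff.1 hy _).1 (mem_map_of_mem f hw)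
  obtain ⟨l, hl⟩ := MulAction.exists_smul_eq L (P.subtype hPL) ((x • P).subtype hxL)
  rw [Sylow.smul_subtype] at hl
  have hl' : (l : G) • P = x • P := Sylow.subtype_injective hl
  have h1 : (l : G)⁻¹ * x ∈ normalizer ((P : Subgroup G) : Set G) :=
    Sylow.smul_eq_iff_mem_normalizer.mp (by rw [mul_smul, ← hl', inv_smul_smul])
  rw [h P] at h1
  have := L.mul_mem l.2 (hPL h1)
  rwa [mul_inv_cancel_left] at this

/-- A Sylow subgroup meets a normal subgroup in a Sylow subgroup. -/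
theorem exists_sylow_comap {A : Type*} [Group A] [Finite A] {f : A →* G} (hf : Function.Injective f)
    [f.range.Normal] {p : ℕ} [Fact p.Prime] (P : Sylow p G) :
    ∃ Q : Sylow p A, (Q : Subgroup A) = (P : Subgroup G).comap f := by
  obtain ⟨Q, hQ⟩ := (P.isPGroup'.comap_of_injective f hf).exists_le_sylow
  refine ⟨Q, (eq_of_le_of_card_ge hQ ?_).symm⟩
  obtain ⟨P', hP'⟩ := (Q.isPGroup'.map f).exists_le_sylow
  obtain ⟨g, hg⟩ := MulAction.exists_smul_eq G P P'
  subst hg
  have key : ∀ a ∈ (Q : Subgroup A), ∃ b ∈ (P : Subgroup G).comap f, f b = g⁻¹ * f a * g := by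
    intro a ha
    have h1 : g⁻¹ * f a * g ∈ f.range := by
      simpa using (inferInstance : f.range.Normal).conj_mem _ ⟨a, rfl⟩ g⁻¹
    obtain ⟨b, hb⟩ := h1
    refine ⟨b, ?_, hb⟩
    have h2 : f a ∈ ((g • P : Sylow p G) : Subgroup G) := hP' (mem_map_of_mem f ha)
    rw [Sylow.coe_subgroup_smul] at h2
    obtain ⟨w, hw, he⟩ := h2
    show f b ∈ (P : Subgroup G)
    rw [hb, ← he]
    show g⁻¹ * (g * w * g⁻¹) * g ∈ (P : Subgroup G)
    rw [show g⁻¹ * (g * w * g⁻¹) * g = w by group]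
    exact hw
  choose b hb hb' using key
  refine Nat.card_le_card_of_injective (fun a => ⟨b a.1 a.2, hb a.1 a.2⟩) fun x y hxy => ?_
  have h3 : f (b x.1 x.2) = f (b y.1 y.2) := congrArg f (congrArg Subtype.val hxy)
  rw [hb', hb'] at h3
  exact Subtype.ext (hf (mul_left_cancel (mul_right_cancel h3)))

/-- An automorphism of odd order of a cyclic `2`-group is trivial. -/
theorem mulAut_eq_one_of_cyclic {C : Type*} [Group C] [Finite C] [IsCyclic C] (hC : IsPGroup 2 C)
    (θ : MulAut C) {N : ℕ} (hN : Odd N) (h : θ ^ N = 1) : θ = 1 := by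
  haveI := Fact.mk Nat.prime_two
  obtain ⟨m, hm⟩ := IsPGroup.iff_card.1 hC
  have hcard : Nat.card (MulAut C) ∣ 2 ^ m := by
    rw [IsCyclic.card_mulAut, hm]
    rcases m with _ | m
    · simp
    · rw [Nat.totient_prime_pow Nat.prime_two (Nat.succ_pos m)]
      exact ⟨2, by simp [pow_succ]⟩
  have h2 : θ ^ 2 ^ m = 1 := orderOf_dvd_iff_pow_eq_one.1 ((orderOf_dvd_natCard θ).trans hcard)
  have h3 := pow_gcd_eq_one.2 ⟨h, h2⟩
  rwa [(Nat.Coprime.pow_right m hN.coprime_two_right).gcd_eq_one, pow_one] at h3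

end CfsgLib.KnownC.Pronormal
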