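import Cfsg.Agent.Lib.KnownC.Pronormal.BaseTwo
import Cfsg.Agent.Lib.Classical.LinearTwoSylow
import Cfsg.Agent.Lib.Classical.HermMatrix
import Cfsg.Agent.Lib.Involution.GU2SylowTwo

/-!
Sylow `2`-subgroups of `SL` and `SU` in dimension `2 ^ w ≥ 4`, odd characteristic, are self-normalising.
-/

set_option autoImplicit false
set_option linter.style.haveILetI false
set_option linter.unusedSectionVars false

namespace CfsgLib.KnownC.Pronormal

open Matrix CfsgLib.Involution.GL2SylowTwo CfsgLib.Classical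

variable {K : Type*} [Field K] [Fintype K]

local notation "Gdet" => Matrix.GeneralLinearGroup.det

/-- `Fin m ⊕ Fin m ≃ Fin (2 * m)`. -/
def dblEquiv (m : ℕ) : Fin m ⊕ Fin m ≃ Fin (2 * m) := finSumFinEquiv.trans (finCongr (two_mul m).symm)

theorem two_ne_zero_of_odd_card (hodd : Odd (Fintype.card K)) : (2 : K) ≠ 0 :=
  Ring.two_ne_zero (by
    intro h
    have := FiniteField.even_card_of_char_two h
    rw [Nat.odd_iff] at hodd
    omega)

theorem val_two_pow_factorial (j : ℕ) : padicValNat 2 (2 ^ j).factorial + 1 = 2 ^ j := by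
  haveI := Fact.mk Nat.prime_two
  induction j with
  | zero => simp
  | succ j ih =>
    rw [pow_succ', padicValNat_factorial_mul]
    omega

theorem eq_two_pow_succ (w : ℕ) (hw : 2 ≤ w) : ∃ j, 2 ^ w = 2 * 2 ^ (j + 1) :=
  ⟨w - 2, by rw [← pow_succ']; congr 1; omega⟩

/-- Going from dimension two to all dimensions `2 ^ w`. -/
theorem strongGood_all (hodd : Odd (Fintype.card K)) (U : ∀ m : ℕ, Subgroup (GL (Fin m) K)) (c : ℕ)
    (hblk : ∀ m a b, reGL (dblEquiv m) (bd (a, b)) ∈ U (2 * m) ↔ a ∈ U m ∧ b ∈ U m)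
    (hswap : ∀ m, reGL (dblEquiv m) (sw : GL (Fin m ⊕ Fin m) K) ∈ U (2 * m))
    (hcard : ∀ m, (Nat.card (U (2 * m))).factorization 2 = m * c + padicValNat 2 m.factorial)
    (hbase : Good (U 2)) (j : ℕ) : StrongGood (U (2 * 2 ^ (j + 1))) := by
  have step : ∀ i : ℕ, Good (U (2 * 2 ^ i)) → StrongGood (U (2 * 2 ^ (i + 1))) := by
    intro i hi
    rw [pow_succ' 2 i]
    set m := 2 * 2 ^ i with hm
    have hYm : ((U (2 * m)).comap (reGL (dblEquiv m)).toMonoidHom).map (reGL (dblEquiv m)).toMonoidHom = U (2 * m) :=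
      Subgroup.map_comap_eq_self_of_surjective (reGL (dblEquiv m)).surjective _
    have hYc : Nat.card ((U (2 * m)).comap (reGL (dblEquiv m)).toMonoidHom) = Nat.card (U (2 * m)) := by
      conv_rhs => rw [← hYm]
      rw [Subgroup.card_map_of_injective (f := (reGL (dblEquiv m)).toMonoidHom) (reGL (dblEquiv m)).injective]
    rw [← hYm]
    haveI : Nontrivial (Fin m) := by
      rw [Fin.nontrivial_iff_two_le]
      have := Nat.two_pow_pos i
      omega
    refine (strongGood_double (two_ne_zero_of_odd_card hodd) ?_ (U m) _ (fun a b => hblk m a b) (hswap m) ?_ hi).reindex _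
    · rw [Fintype.card_fin, hm]; exact even_two_mul _
    · rw [hYc, hcard, hm, hcard]
      have h1 := val_two_pow_factorial i
      have h2 := val_two_pow_factorial (i + 1)
      rw [pow_succ'] at h2
      rw [mul_assoc]
      omega
  have hgood : ∀ i, Good (U (2 * 2 ^ i)) := by
    intro i
    induction i with
    | zero => exact hbase
    | succ i ih => exact (step i ih).good
  exact step j (hgood j)

theorem reGL_mulVec {ι κ : Type*} [Fintype ι] [DecidableEq ι] [Fintype κ] [DecidableEq κ] (e : ι ≃ κ)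
    (g : GL ι K) (u : κ → K) :
    ((reGL e g : GL κ K) : Matrix κ κ K) *ᵥ u = ((g : Matrix ι ι K) *ᵥ (u ∘ e)) ∘ e.symm := by
  rw [coe_reGL, Matrix.submatrix_mulVec_equiv]
  rfl

variable {q : ℕ}

theorem mem_GU_double (hq : q ≠ 0) (m : ℕ) (g : GL (Fin m ⊕ Fin m) K) :
    reGL (dblEquiv m) g ∈ Cfsg.GU (2 * m) K q ↔ ∀ u v : Fin m ⊕ Fin m → K,
      ∑ i, ((g : Matrix (Fin m ⊕ Fin m) (Fin m ⊕ Fin m) K) *ᵥ u) i *
        ((g : Matrix (Fin m ⊕ Fin m) (Fin m ⊕ Fin m) K) *ᵥ v) i ^ q = ∑ i, u i * v i ^ q := by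
  have key : ∀ u v : Fin (2 * m) → K, Cfsg.hermForm (2 * m) K q u v =
      ∑ i, u (dblEquiv m i) * v (dblEquiv m i) ^ q := fun u v =>
    ((dblEquiv m).sum_comp fun i => u i * v i ^ q).symm
  constructor
  · intro h u v
    have := h (u ∘ (dblEquiv m).symm) (v ∘ (dblEquiv m).symm)
    change Cfsg.hermForm (2 * m) K q (((reGL (dblEquiv m) g : GL (Fin (2 * m)) K) : Matrix (Fin (2 * m)) (Fin (2 * m)) K) *ᵥ _)
      (((reGL (dblEquiv m) g : GL (Fin (2 * m)) K) : Matrix (Fin (2 * m)) (Fin (2 * m)) K) *ᵥ _) = _ at this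
    rw [reGL_mulVec, reGL_mulVec, key, key] at this
    simpa [Function.comp_assoc] using this
  · intro h u v
    change Cfsg.hermForm (2 * m) K q (((reGL (dblEquiv m) g : GL (Fin (2 * m)) K) : Matrix (Fin (2 * m)) (Fin (2 * m)) K) *ᵥ u)
      (((reGL (dblEquiv m) g : GL (Fin (2 * m)) K) : Matrix (Fin (2 * m)) (Fin (2 * m)) K) *ᵥ v) = _
    rw [reGL_mulVec, reGL_mulVec, key, key]
    simpa using h (u ∘ dblEquiv m) (v ∘ dblEquiv m)

theorem GU_blk (hq : q ≠ 0) (m : ℕ) (a b : GL (Fin m) K) :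
    reGL (dblEquiv m) (bd (a, b)) ∈ Cfsg.GU (2 * m) K q ↔ a ∈ Cfsg.GU m K q ∧ b ∈ Cfsg.GU m K q := by
  rw [mem_GU_double hq]
  simp only [coe_bd, fromBlocks_mulVec, Fintype.sum_sum_type, Matrix.zero_mulVec, add_zero, zero_add,
    Sum.elim_inl, Sum.elim_inr]
  constructor
  · intro h
    constructor
    · intro u v
      have := h (Sum.elim u 0) (Sum.elim v 0)
      simpa [Cfsg.hermForm, Function.comp_def, hq, ← Pi.zero_def] using this
    · intro u v
      have := h (Sum.elim 0 u) (Sum.elim 0 v)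
      simpa [Cfsg.hermForm, Function.comp_def, hq, ← Pi.zero_def] using this
  · rintro ⟨ha, hb⟩ u v
    have e1 := ha (u ∘ Sum.inl) (v ∘ Sum.inl)
    have e2 := hb (u ∘ Sum.inr) (v ∘ Sum.inr)
    exact congrArg₂ (· + ·) e1 e2

theorem GU_swap (hq : q ≠ 0) (m : ℕ) :
    reGL (dblEquiv m) (sw : GL (Fin m ⊕ Fin m) K) ∈ Cfsg.GU (2 * m) K q := by
  rw [mem_GU_double hq]
  intro u v
  simp [coe_sw, fromBlocks_mulVec, Fintype.sum_sum_type, add_comm]

theorem val_plus_one_pow {q : ℕ} (hq1 : 1 < q) (hq : q % 2 = 1) (k : ℕ) :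
    padicValNat 2 (q ^ (2 * k + 1) + 1) = padicValNat 2 (q + 1) := by
  haveI := Fact.mk Nat.prime_two
  have h1 := LinearTwoSylow.val_even_pow hq1 hq (i := 2 * k + 1) (by omega)
  have h2 := LinearTwoSylow.val_odd_pow hq1 hq k
  have hpow : 1 < q ^ (2 * k + 1) := Nat.one_lt_pow (by omega) hq1
  have e : q ^ (2 * (2 * k + 1)) - 1 = (q ^ (2 * k + 1) + 1) * (q ^ (2 * k + 1) - 1) := by
    rw [← Nat.sq_sub_sq, one_pow, ← pow_mul, mul_comm]
  have e' : q ^ 2 - 1 = (q + 1) * (q - 1) := by rw [← Nat.sq_sub_sq, one_pow]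
  rw [e, padicValNat.mul (by omega) (by omega), e', padicValNat.mul (by omega) (by omega), h2,
    padicValNat.eq_zero_of_not_dvd (n := 2 * k + 1) (by omega)] at h1
  omega

theorem val_gu_even (hF : Fintype.card K = q ^ 2) (hq2 : q % 2 = 1) (m : ℕ) :
    (Nat.card (Cfsg.GU (2 * m) K q)).factorization 2
      = m * (padicValNat 2 (q + 1) + padicValNat 2 (q ^ 2 - 1)) + padicValNat 2 m.factorial := by
  haveI := Fact.mk Nat.prime_two
  have hq1 : 1 < q := two_le_of_card_sq hF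
  have hne : ∀ i : ℕ, (if Even i then q ^ (i + 1) + 1 else q ^ (i + 1) - 1) ≠ 0 := fun i => by
    split
    · omega
    · have := Nat.one_lt_pow (n := i + 1) (by omega) hq1
      omega
  have hqo : padicValNat 2 (q ^ (2 * m * (2 * m - 1) / 2)) = 0 :=
    padicValNat.eq_zero_of_not_dvd fun h => by
      have := Nat.prime_two.dvd_of_dvd_pow h
      omega
  rw [card_GU hF, Nat.factorization_mul (pow_ne_zero _ (by omega)) (Finset.prod_ne_zero_iff.2 fun i _ => hne i),
    Finsupp.add_apply, Nat.factorization_prod_apply (fun i _ => hne i), Nat.factorization_def _ Nat.prime_two,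
    hqo, zero_add]
  simp only [Nat.factorization_def _ Nat.prime_two]
  clear hqo
  induction m with
  | zero => simp
  | succ m ih =>
    rw [show 2 * (m + 1) = 2 * m + 1 + 1 by ring, Finset.sum_range_succ, Finset.sum_range_succ, ih,
      if_pos (even_two_mul m), if_neg (Nat.not_even_iff_odd.2 (odd_two_mul_add_one m)), val_plus_one_pow hq1 hq2,
      show 2 * m + 1 + 1 = 2 * (m + 1) by ring, LinearTwoSylow.val_even_pow hq1 hq2 (Nat.succ_ne_zero m),
      Nat.factorial_succ, padicValNat.mul (Nat.succ_ne_zero m) (Nat.factorial_ne_zero m)]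
    ring

theorem two_pow_not_dvd_half {N : ℕ} (hN : 0 < N) (h2 : 2 ∣ N) : ¬ 2 ^ N.factorization 2 ∣ N / 2 := by
  intro h
  refine Nat.pow_succ_factorization_not_dvd hN.ne' Nat.prime_two ?_
  rw [pow_succ]
  have := mul_dvd_mul_right h 2
  rwa [Nat.div_mul_cancel h2] at this

/-- The base: quaternion generators and an element of suitable determinant. -/
theorem good_two_of (hodd : Odd (Fintype.card K)) (X : Subgroup (GL (Fin 2) K)) (N : ℕ) (hN : 0 < N) (h2 : 2 ∣ N)
    (hNK : N ∣ Nat.card Kˣ) (α β : K) (hab : α ^ 2 + β ^ 2 = -1)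
    (haX : GeneralLinearGroup.mkOfDetNeZero !![(0 : K), 1; -1, 0] (by simp [det_fin_two]) ∈ X)
    (hbX : GeneralLinearGroup.mkOfDetNeZero !![α, β; β, -α] (by
      rw [det_fin_two_of]; intro h; exact one_ne_zero (by linear_combination h + hab)) ∈ X)
    (hdX : ∀ c : Kˣ, c ^ N = 1 → dg (c, 1) ∈ X)
    (hscal : ∀ (e : K) (u : GL (Fin 2) K), u ∈ X → (u : Matrix (Fin 2) (Fin 2) K) = e • 1 → e ^ N = 1) :
    Good X := by
  obtain ⟨c, hc⟩ := exists_unit_orderOf (F := K) ((Nat.ordProj_dvd N 2).trans hNK)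
  have hcN : c ^ N = 1 := orderOf_dvd_iff_pow_eq_one.1 (hc ▸ Nat.ordProj_dvd N 2)
  refine good_two hodd X haX hbX (hdX c hcN) ?_ ?_ ?_ ?_ ?_ ⟨N.factorization 2, ?_⟩ ?_
  · refine Units.ext ?_
    ext i j
    fin_cases i <;> fin_cases j <;>
      simp [GeneralLinearGroup.val_mkOfDetNeZero, Matrix.mul_apply, Fin.sum_univ_two]
  · refine Units.ext ?_
    ext i j
    fin_cases i <;> fin_cases j <;>
      simp [GeneralLinearGroup.val_mkOfDetNeZero, Matrix.mul_apply, Fin.sum_univ_two] <;>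
      first
        | (ring; done)
        | linear_combination hab
        | linear_combination -hab
  · refine Units.ext ?_
    ext i j
    fin_cases i <;> fin_cases j <;>
      simp [GeneralLinearGroup.val_mkOfDetNeZero, Matrix.mul_apply, Fin.sum_univ_two] <;> ring
  · exact Units.ext (by simp [GeneralLinearGroup.val_mkOfDetNeZero, det_fin_two])
  · refine Units.ext ?_
    simp [GeneralLinearGroup.val_mkOfDetNeZero, det_fin_two]
    linear_combination -hab
  · rw [← map_pow, Prod.pow_mk, one_pow, orderOf_dvd_iff_pow_eq_one.1 (hc ▸ dvd_rfl)]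
    exact map_one dg
  · intro e u hu he hcontra
    have hd : ((Gdet (dg (c, (1 : Kˣ))) : Kˣ) : K) = c := by
      simp [dg, det_fin_two]
    rw [hd] at hcontra
    refine two_pow_not_dvd_half hN h2 (hc ▸ orderOf_dvd_of_pow_eq_one (Units.ext ?_))
    rw [Units.val_pow_eq_pow_val, ← hcontra, ← pow_mul, Nat.mul_div_cancel' h2, hscal e u hu he, Units.val_one]

theorem good_GL_two (hodd : Odd (Fintype.card K)) : Good (⊤ : Subgroup (GL (Fin 2) K)) := by
  obtain ⟨p, hc⟩ := CharP.exists K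
  obtain ⟨n, hp, hn⟩ := FiniteField.card K p
  haveI := Fact.mk hp
  obtain ⟨u, v, huv⟩ := CharP.sq_add_sq K p (-1)
  have h2 : 2 ∣ Fintype.card K - 1 := by rw [Nat.odd_iff] at hodd; omega
  refine good_two_of hodd ⊤ (Fintype.card K - 1) (by have := Fintype.one_lt_card (α := K); omega) h2
    (by rw [Nat.card_units, Nat.card_eq_fintype_card]) (u : K) (v : K) (by simpa using huv) (Subgroup.mem_top _)
    (Subgroup.mem_top _) (fun c _ => Subgroup.mem_top _) fun e u _ he => FiniteField.pow_card_sub_one_eq_one e ?_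
  rintro rfl
  have h := congrArg Matrix.det he
  rw [zero_smul, det_zero] at h
  exact ((Matrix.isUnit_iff_isUnit_det _).1 u.isUnit).ne_zero h

theorem exists_quaternion_pair (hF : Fintype.card K = q ^ 2) (hq2 : q % 2 = 1) :
    ∃ α β : K, α ^ 2 + β ^ 2 = -1 ∧ α ^ q = -α ∧ β ^ q = -β := by
  classical
  obtain ⟨σ, hσ, hc⟩ := exists_frob hF
  have h2 : (2 : K) ≠ 0 := two_ne_zero_of_odd_card (by rw [hF]; exact (Nat.odd_iff.2 hq2).pow)
  obtain ⟨i, hi⟩ : IsSquare (-1 : K) := by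
    rw [FiniteField.isSquare_neg_one_iff, hF, pow_two, Nat.mul_mod]
    rcases (show q % 4 = 1 ∨ q % 4 = 3 by omega) with h | h <;> simp [h]
  have hi2 : σ i * σ i = i * i := by rw [← map_mul, ← hi, map_neg, map_one]
  rcases mul_self_eq_mul_self_iff.1 hi2 with hfix | hneg
  swap
  · refine ⟨i, 0, by linear_combination -hi, by rw [← hσ]; exact hneg, ?_⟩
    rw [zero_pow (by omega), neg_zero]
  obtain ⟨t, ht⟩ : ∃ t, σ t ≠ t := by
    by_contra! h
    exact hc.ne_id (RingHom.ext h)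
  set e := t - σ t with he
  have he0 : e ≠ 0 := sub_ne_zero.2 (Ne.symm ht)
  have hse : σ e = -e := by rw [he, map_sub, hc.invol, neg_sub]
  set c := -(e * e)⁻¹ with hcdef
  have hsc : σ c = c := by rw [hcdef, map_neg, map_inv₀, map_mul, hse, neg_mul_neg]
  have hi0 : i ≠ 0 := by rintro rfl; simp at hi
  set x := (c + 1) / 2 with hx
  set y := (c - 1) / (2 * i) with hy
  have hxy : x ^ 2 + y ^ 2 = c := by
    rw [hx, hy]
    field_simp
    linear_combination -(c - 1) ^ 2 * hi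
  refine ⟨e * x, e * y, ?_, ?_, ?_⟩
  · rw [mul_pow, mul_pow, ← mul_add, hxy, hcdef, pow_two, mul_neg, mul_inv_cancel₀ (mul_ne_zero he0 he0)]
  · rw [← hσ, map_mul, hse, hx, map_div₀, map_add, hsc, map_one, map_ofNat, neg_mul]
  · rw [← hσ, map_mul, hse, hy, map_div₀, map_sub, map_mul, hsc, map_one, map_ofNat, hfix, neg_mul]

theorem good_GU_two (hF : Fintype.card K = q ^ 2) (hq2 : q % 2 = 1) : Good (Cfsg.GU 2 K q) := by
  obtain ⟨σ, hσ, hc⟩ := exists_frob hF
  have hodd : Odd (Fintype.card K) := by rw [hF]; exact (Nat.odd_iff.2 hq2).pow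
  obtain ⟨α, β, hab, hα, hβ⟩ := exists_quaternion_pair hF hq2
  rw [← hσ] at hα hβ
  refine good_two_of hodd _ (q + 1) (by omega) (by omega) ?_ α β hab ?_ ?_
    (fun c hcp => CfsgLib.Involution.GU2SylowTwo.dg_mem hcp (one_pow _)) ?_
  · refine ⟨q - 1, ?_⟩
    rw [Nat.card_units, Nat.card_eq_fintype_card, hF, ← Nat.sq_sub_sq, one_pow]
  · refine CfsgLib.Involution.GU2SylowTwo.mem_GU.2 fun u v => ?_
    simp only [GeneralLinearGroup.val_mkOfDetNeZero, CfsgLib.Involution.GU2SylowTwo.hermForm_two, ← hσ,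
      Matrix.mulVec, dotProduct, Fin.sum_univ_two]
    simp
    ring
  · refine CfsgLib.Involution.GU2SylowTwo.mem_GU.2 fun u v => ?_
    simp only [GeneralLinearGroup.val_mkOfDetNeZero, CfsgLib.Involution.GU2SylowTwo.hermForm_two, ← hσ,
      Matrix.mulVec, dotProduct, Fin.sum_univ_two]
    simp [hα, hβ]
    linear_combination -(u 0 * σ (v 0) + u 1 * σ (v 1)) * hab
  · intro e u hu he
    have h := CfsgLib.Involution.GU2SylowTwo.mem_GU.1 hu ![1, 0] ![1, 0]
    rw [he, CfsgLib.Involution.GU2SylowTwo.hermForm_two, CfsgLib.Involution.GU2SylowTwo.hermForm_two] at h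
    simp [smul_mulVec, zero_pow (show q ≠ 0 by omega)] at h
    rw [pow_succ']
    exact h

theorem strongGood_GL (hodd : Odd (Fintype.card K)) (w : ℕ) (hw : 2 ≤ w) :
    StrongGood (⊤ : Subgroup (GL (Fin (2 ^ w)) K)) := by
  obtain ⟨j, hj⟩ := eq_two_pow_succ w hw
  rw [hj]
  exact strongGood_all hodd (fun m => (⊤ : Subgroup (GL (Fin m) K)))
    (padicValNat 2 (Fintype.card K - 1) + padicValNat 2 (Fintype.card K ^ 2 - 1))
    (fun m a b => by simp) (fun m => Subgroup.mem_top _)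
    (fun m => by rw [Subgroup.card_top]; exact LinearTwoSylow.val_gl_even hodd m) (good_GL_two hodd) j

theorem strongGood_GU (hF : Fintype.card K = q ^ 2) (hq2 : q % 2 = 1) (w : ℕ) (hw : 2 ≤ w) :
    StrongGood (Cfsg.GU (2 ^ w) K q) := by
  obtain ⟨j, hj⟩ := eq_two_pow_succ w hw
  rw [hj]
  exact strongGood_all (by rw [hF]; exact (Nat.odd_iff.2 hq2).pow) (fun m => Cfsg.GU m K q) _
    (fun m a b => GU_blk (by omega) m a b) (fun m => GU_swap (by omega) m)
    (fun m => val_gu_even hF hq2 m) (good_GU_two hF hq2) j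

/-- From the strong property to self-normalising Sylow subgroups of the determinant one part. -/
theorem normalizer_self_of_strongGood {w : ℕ} {X : Subgroup (GL (Fin (2 ^ w)) K)} (h : StrongGood X)
    {A : Type*} [Group A] [Finite A] (f : A →* GL (Fin (2 ^ w)) K) (hf : Function.Injective f)
    (hrange : f.range = X ⊓ MonoidHom.ker Gdet) (P : Sylow 2 A) :
    Subgroup.normalizer ((P : Subgroup A) : Set A) = (P : Subgroup A) := by
  haveI := Fact.mk Nat.prime_two
  obtain ⟨S, hSX, hScard, -, -, hnorm⟩ := h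
  have hfX : ∀ a, f a ∈ X := fun a => (hrange.le ⟨a, rfl⟩ : f a ∈ X ⊓ MonoidHom.ker Gdet).1
  have hfd : ∀ a, Gdet (f a) = 1 := fun a => (hrange.le ⟨a, rfl⟩ : f a ∈ X ⊓ MonoidHom.ker Gdet).2
  let f' : A →* X := f.codRestrict X hfX
  haveI : f'.range.Normal := by
    have : f'.range = MonoidHom.ker (MonoidHom.comp Gdet X.subtype) := by
      ext x
      constructor
      · rintro ⟨a, rfl⟩; exact hfd a
      · intro hx
        obtain ⟨a, ha⟩ := hrange.ge (⟨x.2, hx⟩ : (x : GL (Fin (2 ^ w)) K) ∈ X ⊓ MonoidHom.ker Gdet)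
        exact ⟨a, Subtype.ext ha⟩
    rw [this]
    infer_instance
  let S' : Sylow 2 X := Sylow.ofCard (S.subgroupOf X) (by
    rw [Nat.card_congr (Subgroup.subgroupOfEquivOfLe hSX).toEquiv, hScard])
  obtain ⟨Q, hQ⟩ := exists_sylow_comap (f := f') (fun a b h => hf (congrArg Subtype.val h)) S'
  have hQmem : ∀ a, a ∈ (Q : Subgroup A) ↔ f a ∈ S := fun a => by rw [hQ]; rfl
  have hQself : Subgroup.normalizer ((Q : Subgroup A) : Set A) = (Q : Subgroup A) := by
    refine normalizer_eq_self Q fun g hg hgo => ?_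
    obtain ⟨c, hc⟩ := hnorm (f g) (hfX g) (by rwa [orderOf_injective f hf]) fun s hs hd => by
      obtain ⟨a, rfl⟩ := hrange.ge (⟨hSX hs, hd⟩ : s ∈ X ⊓ MonoidHom.ker Gdet)
      have h1 := (Subgroup.mem_normalizer_iff.1 hg a).1 ((hQmem a).2 hs)
      simpa using (hQmem _).1 h1
    have hd := congrArg Units.val (hfd g)
    rw [Matrix.GeneralLinearGroup.val_det_apply, hc, det_smul, det_one, mul_one, Fintype.card_fin, Units.val_one] at hd
    have h1 : f g ^ 2 ^ w = 1 := Units.ext (by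
      rw [Units.val_pow_eq_pow_val, hc, smul_pow, one_pow, hd, one_smul, Units.val_one])
    rw [← map_pow, ← map_one f] at h1
    have h2 := pow_gcd_eq_one.2 ⟨hf h1, pow_orderOf_eq_one g⟩
    rwa [(Nat.Coprime.pow_left w hgo.coprime_two_left).gcd_eq_one, pow_one] at h2
  obtain ⟨x, hx⟩ := MulAction.exists_smul_eq A Q P
  subst hx
  refine le_antisymm (fun g hg => ?_) Subgroup.le_normalizer
  rw [Sylow.coe_subgroup_smul] at hg ⊢
  have h1 : x⁻¹ * g * x ∈ Subgroup.normalizer ((Q : Subgroup A) : Set A) := by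
    refine mem_normalizer_of_forall fun z hz => ?_
    obtain ⟨z', hz', he⟩ := (Subgroup.mem_normalizer_iff.1 hg (x * z * x⁻¹)).1 ⟨z, hz, rfl⟩
    have he' : x * z' * x⁻¹ = g * (x * z * x⁻¹) * g⁻¹ := he
    have : x⁻¹ * g * x * z * (x⁻¹ * g * x)⁻¹ = z' := by
      calc _ = x⁻¹ * (g * (x * z * x⁻¹) * g⁻¹) * x := by group
        _ = z' := by rw [← he']; group
    rw [this]
    exact hz'
  rw [hQself] at h1
  exact ⟨_, h1, by show x * (x⁻¹ * g * x) * x⁻¹ = g; group⟩

theorem sl_normalizer_self (hodd : Odd (Fintype.card K)) (w : ℕ) (hw : 2 ≤ w)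
    (P : Sylow 2 (SpecialLinearGroup (Fin (2 ^ w)) K)) :
    Subgroup.normalizer ((P : Subgroup (SpecialLinearGroup (Fin (2 ^ w)) K)) : Set (SpecialLinearGroup (Fin (2 ^ w)) K))
      = (P : Subgroup (SpecialLinearGroup (Fin (2 ^ w)) K)) := by
  refine normalizer_self_of_strongGood (strongGood_GL hodd w hw) SpecialLinearGroup.toGL
    (fun a b h => Subtype.ext (congrArg Units.val h)) ?_ P
  ext g
  rw [top_inf_eq]
  constructor
  · rintro ⟨a, rfl⟩; exact Units.ext a.2
  · intro hg; exact ⟨⟨(g : Matrix _ _ K), by simpa using congrArg Units.val (hg : Gdet g = 1)⟩, Units.ext rfl⟩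

theorem su_normalizer_self (hF : Fintype.card K = q ^ 2) (hq2 : q % 2 = 1) (w : ℕ) (hw : 2 ≤ w)
    (P : Sylow 2 (Cfsg.SU (2 ^ w) K q)) :
    Subgroup.normalizer ((P : Subgroup (Cfsg.SU (2 ^ w) K q)) : Set (Cfsg.SU (2 ^ w) K q))
      = (P : Subgroup (Cfsg.SU (2 ^ w) K q)) := by
  refine normalizer_self_of_strongGood (strongGood_GU hF hq2 w hw)
    ((Cfsg.GU (2 ^ w) K q).subtype.comp (suToGU (2 ^ w) K q))
    (Subtype.val_injective.comp suToGU_injective) ?_ P
  obtain ⟨σ, hσ, -⟩ := exists_frob hF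
  ext g
  rw [MonoidHom.range_comp, suToGU_range hσ]
  constructor
  · rintro ⟨u, hu, rfl⟩
    exact ⟨u.2, (guDet_eq_one_iff hσ u).1 hu⟩
  · rintro ⟨hgU, hgd⟩
    exact ⟨⟨g, hgU⟩, (guDet_eq_one_iff hσ _).2 hgd, rfl⟩

end CfsgLib.KnownC.Pronormal
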