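import Cfsg.Agent.Lib.KnownC.Pronormal.Basic
import Cfsg.Agent.Lib.PGroup.SteinbergSU
import Cfsg.Agent.Lib.PGroup.FusionPSL

/-!
In characteristic two every subgroup containing a Sylow `2`-subgroup of `SL` or `SU` is normalised by a torus.
-/

set_option autoImplicit false
set_option linter.style.haveILetI false
set_option linter.unusedSectionVars false

namespace CfsgLib.KnownC.Pronormal

open Subgroup MulAction Pointwise

variable {Q : Type*} [Group Q] [Finite Q]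

/-- The torus normalises every overgroup of the Sylow subgroup. -/
theorem torus_le_normalizer (S : Sylow 2 Q) (T H : Subgroup Q) (hT : ∀ a ∈ T, ∀ b ∈ T, a * b = b * a)
    (hTS : ∀ t ∈ T, ∀ u ∈ (S : Subgroup Q), t * u * t⁻¹ ∈ (S : Subgroup Q))
    (hNS : ∀ g ∈ normalizer ((S : Subgroup Q) : Set Q), ∃ u ∈ (S : Subgroup Q), ∃ t ∈ T, g = u * t)
    (hdec : ∀ g : Q, ∃ u ∈ (S : Subgroup Q), ∃ n : Q, ∃ u' ∈ (S : Subgroup Q),
      (∀ t ∈ T, n⁻¹ * t * n ∈ T) ∧ g = u * n * u')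
    (hSH : (S : Subgroup Q) ≤ H) : T ≤ normalizer (H : Set Q) := by
  haveI := Fact.mk Nat.prime_two
  set C : Set Q := {z | ∃ h ∈ H, ∃ x ∈ (S : Subgroup Q), z = h * x * h⁻¹} with hC
  set M := closure C with hM
  have hMH : M ≤ H := (closure_le _).2 fun z ⟨h, hh, x, hx, hz⟩ =>
    hz ▸ mul_mem (mul_mem hh (hSH hx)) (inv_mem hh)
  have hSM : (S : Subgroup Q) ≤ M := fun x hx => subset_closure ⟨1, one_mem H, x, hx, by group⟩
  have hTM : ∀ t ∈ T, ∀ z ∈ M, t * z * t⁻¹ ∈ M := by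
    intro t ht
    have : M.map (MulAut.conj t).toMonoidHom ≤ M := by
      rw [hM, MonoidHom.map_closure, closure_le]
      rintro _ ⟨_, ⟨h, hh, x, hx, rfl⟩, rfl⟩
      obtain ⟨u, hu, n, u', hu', hn, rfl⟩ := hdec h
      have htu : t * u * t⁻¹ ∈ (S : Subgroup Q) := hTS t ht u hu
      have hx' : n⁻¹ * t * n * (u' * x * u'⁻¹) * (n⁻¹ * t * n)⁻¹ ∈ (S : Subgroup Q) :=
        hTS _ (hn t ht) _ (mul_mem (mul_mem hu' hx) (inv_mem hu'))
      have hnH : n ∈ H := by
        have : n = u⁻¹ * (u * n * u') * u'⁻¹ := by group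
        rw [this]
        exact mul_mem (mul_mem (inv_mem (hSH hu)) hh) (inv_mem (hSH hu'))
      refine subset_closure ⟨t * u * t⁻¹ * n, mul_mem (hSH htu) hnH, _, hx', ?_⟩
      show t * (u * n * u' * x * (u * n * u')⁻¹) * t⁻¹ = _
      group
    exact fun z hz => this ⟨z, hz, rfl⟩
  refine fun t ht => mem_normalizer_iff_map_conj_eq.2 (eq_of_le_of_card_ge ?_
    (card_map_of_injective (MulAut.conj t).injective).ge)
  rintro _ ⟨h, hh, rfl⟩
  show t * h * t⁻¹ ∈ H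
  have hhS : ((h • S : Sylow 2 Q) : Subgroup Q) ≤ M := by
    rw [Sylow.coe_subgroup_smul]
    rintro _ ⟨x, hx, rfl⟩
    exact subset_closure ⟨h, hh, x, hx, rfl⟩
  obtain ⟨m, hm⟩ := MulAction.exists_smul_eq M (S.subtype hSM) ((h • S).subtype hhS)
  rw [Sylow.smul_subtype] at hm
  have hm' : (m : Q) • S = h • S := Sylow.subtype_injective hm
  obtain ⟨u, hu, s, hs, he⟩ := hNS ((m : Q)⁻¹ * h)
    (Sylow.smul_eq_iff_mem_normalizer.mp (by rw [mul_smul, ← hm', inv_smul_smul]))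
  have e : h = (m : Q) * u * s := by rw [mul_assoc, ← he, mul_inv_cancel_left]
  have hsH : s ∈ H := by
    have : s = ((m : Q) * u)⁻¹ * h := by rw [e]; group
    rw [this]
    exact mul_mem (inv_mem (mul_mem (hMH m.2) (hSH hu))) hh
  have hts : t * s * t⁻¹ = s := by rw [hT t ht s hs, mul_inv_cancel_right]
  have e' : t * h * t⁻¹ = t * ((m : Q) * u) * t⁻¹ * (t * s * t⁻¹) := by rw [e]; group
  rw [e', hts]
  exact mul_mem (hMH (hTM t ht _ (mul_mem m.2 (hSM hu)))) hsH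

theorem isPronormal_of_torus (S : Sylow 2 Q) (T : Subgroup Q) (hT : ∀ a ∈ T, ∀ b ∈ T, a * b = b * a)
    (hTS : ∀ t ∈ T, ∀ u ∈ (S : Subgroup Q), t * u * t⁻¹ ∈ (S : Subgroup Q))
    (hNS : ∀ g ∈ normalizer ((S : Subgroup Q) : Set Q), ∃ u ∈ (S : Subgroup Q), ∃ t ∈ T, g = u * t)
    (hdec : ∀ g : Q, ∃ u ∈ (S : Subgroup Q), ∃ n : Q, ∃ u' ∈ (S : Subgroup Q),
      (∀ t ∈ T, n⁻¹ * t * n ∈ T) ∧ g = u * n * u')
    (H : Subgroup Q) (hH : Odd H.index) : Cfsg.IsPronormal H := by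
  haveI := Fact.mk Nat.prime_two
  refine isPronormal_of_normalizer_le H hH fun S' hS' y hy => ?_
  obtain ⟨x, rfl⟩ := MulAction.exists_smul_eq Q S S'
  set H' := H.comap (MulAut.conj x).toMonoidHom with hH'
  have hSH' : (S : Subgroup Q) ≤ H' := by
    intro u hu
    apply hS'
    rw [Sylow.coe_subgroup_smul]
    exact ⟨u, hu, rfl⟩
  have hy' : x⁻¹ * y * x ∈ normalizer ((S : Subgroup Q) : Set Q) := by
    apply Sylow.smul_eq_iff_mem_normalizer.mp
    have : y • (x • S) = x • S := Sylow.smul_eq_iff_mem_normalizer.mpr hy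
    rw [mul_smul, mul_smul, this, inv_smul_smul]
  obtain ⟨u, hu, t, ht, he⟩ := hNS _ hy'
  have h1 : x⁻¹ * y * x ∈ normalizer (H' : Set Q) := by
    rw [he]
    exact mul_mem (le_normalizer (hSH' hu)) (torus_le_normalizer S T H' hT hTS hNS hdec hSH' ht)
  refine mem_normalizer_iff.2 fun z => ?_
  have h2 := mem_normalizer_iff.1 h1 (x⁻¹ * z * x)
  have e1 : ∀ w : Q, w ∈ H' ↔ x * w * x⁻¹ ∈ H := fun w => Iff.rfl
  rw [e1, e1] at h2
  convert h2 using 1
  · rw [show x * (x⁻¹ * z * x) * x⁻¹ = z by group]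
  · rw [show x * (x⁻¹ * y * x * (x⁻¹ * z * x) * (x⁻¹ * y * x)⁻¹) * x⁻¹ = y * z * y⁻¹ by group]

open CfsgLib.PGroup

variable {G : Type*} [Group G] [Finite G] {N : Type*} [Group N] {ν : N →* G} {ε : N →* ℤˣ}
  {B U : Subgroup G} {ι : Type*} {s : ι → N} {R : ι → Set G}

/-- Groups with a split pair and abelian torus. -/
theorem isPronormal_of_splitData (hd : SteinbergModule.SplitData ν ε B U s R)
    (hnorm : ∀ g : G, (∀ u ∈ U, g⁻¹ * u * g ∈ U) → g ∈ B)
    (hcomm : ∀ t t' : N, ν t ∈ B → ν t' ∈ B → ν t * ν t' = ν t' * ν t)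
    {π : G →* Q} (hπ : Function.Surjective π) (P : Sylow 2 G) (hP : (P : Subgroup G) = U)
    (H : Subgroup Q) (hH : Odd H.index) : Cfsg.IsPronormal H := by
  haveI := Fact.mk Nat.prime_two
  set T := (ν.range ⊓ B).map π with hTdef
  refine isPronormal_of_torus (P.mapSurjective hπ) T ?_ ?_ ?_ ?_ H hH
  · rintro _ ⟨a, ⟨⟨t, rfl⟩, ha⟩, rfl⟩ _ ⟨b, ⟨⟨t', rfl⟩, hb⟩, rfl⟩
    exact (map_mul π _ _).symm.trans ((congrArg π (hcomm t t' ha hb)).trans (map_mul π _ _))
  · rintro _ ⟨a, ⟨-, ha⟩, rfl⟩ u hu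
    rw [Sylow.coe_mapSurjective] at hu ⊢
    obtain ⟨v, hv, rfl⟩ := hu
    rw [hP] at hv ⊢
    exact ⟨a * v * a⁻¹, hd.U_conj a ha v hv, by simp⟩
  · intro g hg
    rw [Sylow.coe_mapSurjective] at hg ⊢
    obtain ⟨x, rfl⟩ := hπ g
    set L := ((P : Subgroup G).map π).comap π
    have hPL : (P : Subgroup G) ≤ L := le_comap_map π _
    have hxL : ((x • P : Sylow 2 G) : Subgroup G) ≤ L := by
      rw [Sylow.coe_subgroup_smul]
      rintro _ ⟨w, hw, rfl⟩
      show π (x * w * x⁻¹) ∈ (P : Subgroup G).map π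
      rw [map_mul, map_mul, map_inv]
      exact (mem_normalizer_iff.1 hg _).1 (mem_map_of_mem π hw)
    obtain ⟨l, hl⟩ := MulAction.exists_smul_eq L (P.subtype hPL) ((x • P).subtype hxL)
    rw [Sylow.smul_subtype] at hl
    have hl' : (l : G) • P = x • P := Sylow.subtype_injective hl
    have h1 : (l : G)⁻¹ * x ∈ normalizer ((P : Subgroup G) : Set G) :=
      Sylow.smul_eq_iff_mem_normalizer.mp (by rw [mul_smul, ← hl', inv_smul_smul])
    rw [hP] at h1
    obtain ⟨u, hu, t, ht, he⟩ := hd.B_dec _ (hnorm _ fun v hv => (mem_normalizer_iff''.1 h1 v).1 hv)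
    obtain ⟨w, hw, hwl⟩ := (show π (l : G) ∈ (P : Subgroup G).map π from l.2)
    refine ⟨π (w * u), mem_map_of_mem π (mul_mem hw (hP ▸ hu)), π (ν t),
      ⟨_, ⟨⟨t, rfl⟩, ht⟩, rfl⟩, ?_⟩
    rw [← map_mul, mul_assoc, ← he, map_mul, map_mul, hwl, ← map_mul, ← map_mul, mul_inv_cancel_left]
  · intro g
    obtain ⟨x, rfl⟩ := hπ g
    obtain ⟨b, hb, n, b', hb', rfl⟩ := SplitBruhat.bruhat hd x
    obtain ⟨u, hu, t, ht, rfl⟩ := hd.B_dec b hb
    obtain ⟨u', hu', t', ht', rfl⟩ := hd.B_dec b' hb'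
    rw [Sylow.coe_mapSurjective, hP]
    refine ⟨π u, mem_map_of_mem π hu, π (ν (t * n * t')), π ((ν t')⁻¹ * u' * ν t'), mem_map_of_mem π ?_, ?_, ?_⟩
    · have := hd.U_conj _ (inv_mem ht') u' hu'
      rwa [inv_inv] at this
    · rintro _ ⟨a, ⟨⟨s', rfl⟩, ha⟩, rfl⟩
      refine ⟨(ν (t * n * t'))⁻¹ * ν s' * ν (t * n * t'),
        ⟨⟨(t * n * t')⁻¹ * s' * (t * n * t'), by simp⟩, (hd.torus s' ha).2 _⟩, by simp⟩
    · rw [← map_mul, ← map_mul]
      congr 1
      simp only [map_mul]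
      group

variable {F : Type*} [Field F] [Fintype F] [CharP F 2]

/-- Odd index subgroups of a quotient of `SL_n(2^e)`. -/
theorem sl_even_pronormal {n : ℕ} {π : Matrix.SpecialLinearGroup (Fin n) F →* Q} (hπ : Function.Surjective π)
    (H : Subgroup Q) (hH : Odd H.index) : Cfsg.IsPronormal H := by
  haveI := Fact.mk Nat.prime_two
  obtain ⟨P, hP⟩ := FusionPSL.exists_sylow (F := F) (n := n) (p := 2)
    (π := MonoidHom.id (Matrix.SpecialLinearGroup (Fin n) F)) Function.surjective_id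
  rw [Subgroup.map_id] at hP
  refine isPronormal_of_splitData SteinbergSL.splitData (fun g hg => ?_) (fun t t' ht ht' => ?_) hπ P hP H hH
  · have hinv : g⁻¹ ∈ SteinbergSL.B F n :=
      SteinbergSL.mem_B.2 (UnitriangularSL.upper_of_normalizes fun u hu => by simpa using hg u hu)
    simpa using inv_mem hinv
  · refine Subtype.ext ?_
    rw [Matrix.SpecialLinearGroup.coe_mul, Matrix.SpecialLinearGroup.coe_mul]
    have hd : ∀ t : SteinbergSL.N F n, SteinbergSL.ν t ∈ SteinbergSL.B F n →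
        (SteinbergSL.ν t).1 = Matrix.diagonal fun a => (SteinbergSL.ν t).1 a a := fun t ht => by
      ext a b
      rcases eq_or_ne a b with rfl | hab
      · rw [Matrix.diagonal_apply_eq]
      · have hm : SplitMonomial.Monom (SteinbergSL.ν t).1 1 := SteinbergSL.torus_perm ht ▸ t.2
        rw [Matrix.diagonal_apply_ne _ hab, hm a b hab]
    rw [hd t ht, hd t' ht', Matrix.diagonal_mul_diagonal, Matrix.diagonal_mul_diagonal]
    congr 1
    funext a
    exact mul_comm _ _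

/-- Odd index subgroups of a quotient of `SU_n(2^e)`. -/
theorem su_even_pronormal {n q : ℕ} (hF : Fintype.card F = q ^ 2) {π : Cfsg.SU n F q →* Q}
    (hπ : Function.Surjective π) (H : Subgroup Q) (hH : Odd H.index) : Cfsg.IsPronormal H := by
  haveI := Fact.mk Nat.prime_two
  obtain ⟨σ, hσ, ⟨e⟩⟩ := SUModel.exists_model (n := n) hF
  obtain ⟨D⟩ := SURoots.exists_datum hσ
  obtain ⟨P, hP⟩ := SteinbergSU.exists_sylow D (p := 2) (π := MonoidHom.id (SUModel.SUJ σ n)) Function.surjective_id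
  rw [Subgroup.map_id] at hP
  refine isPronormal_of_splitData (SteinbergSU.splitData D) (fun g hg => SteinbergSU.mem_B_of_normalizes D hg)
    (fun t t' ht ht' => ?_) (π := π.comp e.toMonoidHom) (hπ.comp e.surjective) P hP H hH
  refine SUModel.ext' ?_
  rw [SUModel.coe_mul, SUModel.coe_mul]
  have hd : ∀ t : SURoots.N σ n, SURoots.ν t ∈ SUModel.B σ n →
      (SURoots.ν t).1.1 = Matrix.diagonal fun a => (SURoots.ν t).1.1 a a := fun t ht => by
    ext a b
    rcases eq_or_ne a b with rfl | hab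
    · rw [Matrix.diagonal_apply_eq]
    · have h := SURoots.monom_ν t
      rw [SteinbergSU.torus_perm ht] at h
      rw [Matrix.diagonal_apply_ne _ hab, h a b hab]
  rw [hd t ht, hd t' ht', Matrix.diagonal_mul_diagonal, Matrix.diagonal_mul_diagonal]
  congr 1
  funext a
  exact mul_comm _ _

end CfsgLib.KnownC.Pronormal
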