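import Cfsg.Agent.Lib.KnownC.Pronormal.SLTwoOdd
import Cfsg.Agent.Lib.KnownA.SL2Torus.Sylow
import Cfsg.Agent.Lib.Classical.SL2Fours
import Cfsg.Agent.S3820

/-!
Odd index subgroups of `PSL(2, q)`, `q ≡ ±3 (mod 8)`, are pronormal.
-/

set_option autoImplicit false
set_option linter.style.haveILetI false
set_option linter.unusedSectionVars false

namespace CfsgLib.KnownC.Pronormal

open Matrix
open scoped MatrixGroups

variable {F : Type*} [Field F] [Fintype F]

theorem exists_quaternion_sylow (hodd : Odd (Fintype.card F)) (S : Sylow 2 SL(2, F)) :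
    ∃ a b : SL(2, F), a ∈ (S : Subgroup SL(2, F)) ∧ b ∈ (S : Subgroup SL(2, F)) ∧
      a * a = -1 ∧ b * b = -1 ∧ b * a = -(a * b) := by
  classical
  haveI := Fact.mk Nat.prime_two
  obtain ⟨p, hc⟩ := CharP.exists F
  obtain ⟨n, hp, hn⟩ := FiniteField.card F p
  haveI := Fact.mk hp
  obtain ⟨u₀, v₀, huv⟩ := CharP.sq_add_sq F p (-1)
  set u : F := (u₀ : F)
  set v : F := (v₀ : F)
  have huv' : u ^ 2 + v ^ 2 = -1 := by simpa using huv
  let a : SL(2, F) := ⟨!![0, 1; -1, 0], by simp [det_fin_two]⟩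
  let b : SL(2, F) := ⟨!![u, v; v, -u], by rw [det_fin_two_of]; linear_combination -huv'⟩
  have ha : a * a = -1 := Subtype.ext (show (!![0, 1; -1, 0] : Matrix (Fin 2) (Fin 2) F) * !![0, 1; -1, 0] = -1 by
    ext i j; fin_cases i <;> fin_cases j <;> simp [Matrix.mul_apply, Fin.sum_univ_two])
  have hb : b * b = -1 := Subtype.ext (show (!![u, v; v, -u] : Matrix (Fin 2) (Fin 2) F) * !![u, v; v, -u] = -1 by
    ext i j
    fin_cases i <;> fin_cases j <;> simp [Matrix.mul_apply, Fin.sum_univ_two] <;>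
      first
        | (ring; done)
        | linear_combination huv')
  have hab : b * a = -(a * b) := Subtype.ext (show (!![u, v; v, -u] : Matrix (Fin 2) (Fin 2) F) * !![0, 1; -1, 0] =
      -((!![0, 1; -1, 0] : Matrix (Fin 2) (Fin 2) F) * !![u, v; v, -u]) by
    ext i j; fin_cases i <;> fin_cases j <;> simp [Matrix.mul_apply, Fin.sum_univ_two])
  have hz : ∀ x : SL(2, F), x * x = -1 → IsPGroup 2 (Subgroup.zpowers x) := by
    rintro x hx ⟨w, hw⟩
    obtain ⟨i, rfl⟩ := Subgroup.mem_zpowers_iff.1 hw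
    refine ⟨2, Subtype.ext ?_⟩
    show (x ^ i) ^ 2 ^ 2 = 1
    have hx4 : x ^ 2 ^ 2 = 1 := by
      rw [show (2 : ℕ) ^ 2 = 2 * 2 from rfl, pow_mul, pow_two x, hx, pow_two, neg_mul_neg, one_mul]
    rw [← zpow_natCast, ← _root_.zpow_mul, mul_comm, _root_.zpow_mul, zpow_natCast, hx4, _root_.one_zpow]
  have hai : a⁻¹ = -a := inv_eq_of_mul_eq_one_right (by rw [mul_neg, ha, neg_neg])
  have hnb : Subgroup.zpowers b ≤ Subgroup.normalizer ((Subgroup.zpowers a) : Set SL(2, F)) := by
    rw [Subgroup.zpowers_le]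
    refine mem_normalizer_of_forall fun z hz => ?_
    obtain ⟨i, rfl⟩ := Subgroup.mem_zpowers_iff.1 hz
    have hconj : MulAut.conj b a = a⁻¹ := by
      show b * a * b⁻¹ = a⁻¹
      rw [hab, neg_mul, mul_inv_cancel_right, hai]
    rw [← MulAut.conj_apply, map_zpow, hconj]
    exact zpow_mem (inv_mem (Subgroup.mem_zpowers _)) _
  obtain ⟨S₁, hS₁⟩ := ((hz a ha).to_sup_of_normal_left' (hz b hb) hnb).exists_le_sylow
  obtain ⟨x, hx⟩ := MulAction.exists_smul_eq SL(2, F) S₁ S
  subst hx
  refine ⟨MulAut.conj x a, MulAut.conj x b, ?_, ?_, ?_, ?_, ?_⟩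
  · rw [Sylow.coe_subgroup_smul]
    exact ⟨a, hS₁ (Subgroup.mem_sup_left (Subgroup.mem_zpowers a)), rfl⟩
  · rw [Sylow.coe_subgroup_smul]
    exact ⟨b, hS₁ (Subgroup.mem_sup_right (Subgroup.mem_zpowers b)), rfl⟩
  · rw [← map_mul, ha]; simp
  · rw [← map_mul, hb]; simp
  · rw [← map_mul, ← map_mul, hab]; simp

theorem psl_two_pronormal (hq : Fintype.card F % 8 = 3 ∨ Fintype.card F % 8 = 5)
    (H : Subgroup (ProjectiveSpecialLinearGroup (Fin 2) F)) (hH : Odd H.index) : Cfsg.IsPronormal H := by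
  classical
  haveI := Fact.mk Nat.prime_two
  have hodd : Odd (Fintype.card F) := Nat.odd_iff.2 (by omega)
  have h2 : (2 : F) ≠ 0 := Ring.two_ne_zero (by
    intro h
    have := FiniteField.even_card_of_char_two h
    omega)
  obtain ⟨p, hc⟩ := CharP.exists F
  obtain ⟨n, hp, hn⟩ := FiniteField.card F p
  haveI := Fact.mk hp
  -- a Sylow subgroup in `H`
  obtain ⟨S₀⟩ : Nonempty (Sylow 2 H) := inferInstance
  obtain ⟨Sb, hSbH⟩ : ∃ Sb : Sylow 2 (ProjectiveSpecialLinearGroup (Fin 2) F), (Sb : Subgroup _) ≤ H := by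
    refine ⟨(S₀.isPGroup'.map H.subtype).toSylow ?_, Subgroup.map_subtype_le _⟩
    rw [Subgroup.index_map_subtype, Nat.prime_two.dvd_mul]
    rintro (h | h)
    · exact S₀.not_dvd_index h
    · exact (Nat.not_even_iff_odd.mpr hH) (even_iff_two_dvd.mpr h)
  have hSpro : Cfsg.IsPronormal (Sb : Subgroup (ProjectiveSpecialLinearGroup (Fin 2) F)) := by
    refine isPronormal_of_normalizer_le _ (Nat.not_even_iff_odd.1 fun h => Sb.not_dvd_index (even_iff_two_dvd.1 h)) ?_
    intro S' hS'
    rw [← S'.is_maximal' Sb.isPGroup' hS']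
  rw [Cfsg.Agent.S3820.result _ H hSbH hSpro]
  set π : SL(2, F) →* ProjectiveSpecialLinearGroup (Fin 2) F := QuotientGroup.mk' (Subgroup.center SL(2, F)) with hπ
  have hπs : Function.Surjective π := QuotientGroup.mk'_surjective _
  obtain ⟨S, hS⟩ := Sylow.mapSurjective_surjective hπs 2 Sb
  have hSb : (Sb : Subgroup (ProjectiveSpecialLinearGroup (Fin 2) F)) = (S : Subgroup SL(2, F)).map π := by
    rw [← hS, Sylow.coe_mapSurjective]
  obtain ⟨a, b, haS, hbS, ha, hb, hab⟩ := exists_quaternion_sylow hodd S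
  have hneg : (-1 : SL(2, F)) ∈ (S : Subgroup SL(2, F)) := ha ▸ mul_mem haS haS
  have hne : (-1 : SL(2, F)) ≠ 1 := by
    intro h
    have := congrArg (fun g : SL(2, F) => (g : Matrix (Fin 2) (Fin 2) F) 0 0) h
    simp at this
    exact h2 (by linear_combination -this)
  have hker : ∀ z : SL(2, F), π z = 1 ↔ z = 1 ∨ z = -1 := by
    intro z
    rw [hπ, QuotientGroup.mk'_apply, QuotientGroup.eq_one_iff]
    refine ⟨CfsgLib.Classical.sl2_center_eq, ?_⟩
    rintro (rfl | rfl)
    exacts [one_mem _, CfsgLib.Classical.sl2_neg_one_central]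
  have hkerS : π.ker ≤ (S : Subgroup SL(2, F)) := fun z hz => by
    rcases (hker z).1 hz with rfl | rfl
    exacts [one_mem _, hneg]
  have hpn : ∀ x : SL(2, F), π (-x) = π x := fun x => by
    rw [show -x = -1 * x by simp, map_mul, (hker _).2 (Or.inr rfl), one_mul]
  -- cardinalities
  have hS8 : Nat.card (S : Subgroup SL(2, F)) = 8 := by
    obtain ⟨k, hk1, hfac, -⟩ := CfsgLib.Classical.sl2_sylow_two hodd S
    have hfac' := hfac
    rw [CfsgLib.Classical.card_sl2'] at hfac'
    have := (CfsgLib.KnownA.SL2Torus.two_part hodd Fintype.one_lt_card hfac').2 hq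
    rw [S.card_eq_multiplicity, hfac, show k + 2 = 3 by omega]
    norm_num
  have hZ : Nat.card (Subgroup.center SL(2, F)) = 2 := by
    have : Subgroup.center SL(2, F) = Subgroup.zpowers (-1) := by
      refine le_antisymm (fun z hz => ?_) (Subgroup.zpowers_le.2 CfsgLib.Classical.sl2_neg_one_central)
      rcases CfsgLib.Classical.sl2_center_eq hz with rfl | rfl
      exacts [one_mem _, Subgroup.mem_zpowers _]
    rw [this, Nat.card_zpowers]
    exact orderOf_eq_prime (by rw [pow_two, neg_mul_neg, one_mul]) hne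
  have hcardG : Nat.card SL(2, F) = Nat.card (ProjectiveSpecialLinearGroup (Fin 2) F) * 2 := by
    rw [Subgroup.card_eq_card_quotient_mul_card_subgroup (Subgroup.center SL(2, F)), hZ]
  have hhalf : ∀ (X : Subgroup SL(2, F)) (Y : Subgroup (ProjectiveSpecialLinearGroup (Fin 2) F)),
      Y.index = X.index → 2 * Nat.card Y = Nat.card X := by
    intro X Y h
    have h1 := X.card_mul_index
    rw [hcardG, ← Y.card_mul_index, h] at h1
    exact (Nat.eq_of_mul_eq_mul_right (Nat.pos_of_ne_zero Subgroup.index_ne_zero_of_finite)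
      (h1.trans (by ring))).symm
  have hV4 : Nat.card (Sb : Subgroup (ProjectiveSpecialLinearGroup (Fin 2) F)) = 4 := by
    have := hhalf S Sb (by rw [hSb]; exact Subgroup.index_map_eq _ hπs hkerS)
    omega
  have hN12 : Nat.card (Subgroup.normalizer ((Sb : Subgroup (ProjectiveSpecialLinearGroup (Fin 2) F)) :
      Set (ProjectiveSpecialLinearGroup (Fin 2) F))) = 12 := by
    have h1 : (Sb : Subgroup (ProjectiveSpecialLinearGroup (Fin 2) F)).comap π = S := by
      rw [hSb, Subgroup.comap_map_eq, sup_eq_left.2 hkerS]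
    have h2 := hhalf (Subgroup.normalizer ((S : Subgroup SL(2, F)) : Set SL(2, F)))
      (Subgroup.normalizer ((Sb : Subgroup (ProjectiveSpecialLinearGroup (Fin 2) F)) :
        Set (ProjectiveSpecialLinearGroup (Fin 2) F))) (by
        rw [← h1, ← Subgroup.comap_normalizer_eq_of_surjective _ hπs, Subgroup.index_comap_of_surjective _ hπs])
    have h3 := (CfsgLib.KnownA.SL2Torus.two_sylow hodd S).2.2 hq
    rw [h3, hS8] at h2
    omega
  have hVc : ∀ x ∈ (Sb : Subgroup (ProjectiveSpecialLinearGroup (Fin 2) F)),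
      ∀ y ∈ (Sb : Subgroup (ProjectiveSpecialLinearGroup (Fin 2) F)), x * y = y * x := fun x hx y hy =>
    congrArg Subtype.val (IsPGroup.commutative_of_card_eq_prime_sq (p := 2) (by rw [hV4]; rfl)
      (⟨x, hx⟩ : (Sb : Subgroup (ProjectiveSpecialLinearGroup (Fin 2) F))) ⟨y, hy⟩)
  -- the four group is its own centraliser
  have hCent : ∀ x, (∀ y ∈ (Sb : Subgroup (ProjectiveSpecialLinearGroup (Fin 2) F)), x * y = y * x) →
      x ∈ (Sb : Subgroup (ProjectiveSpecialLinearGroup (Fin 2) F)) := by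
    intro x hx
    obtain ⟨g, rfl⟩ := hπs x
    have hsign : ∀ c ∈ (S : Subgroup SL(2, F)), g * c * g⁻¹ = c ∨ g * c * g⁻¹ = -c := by
      intro c hc
      have h := hx (π c) (hSb.ge (Subgroup.mem_map_of_mem π hc))
      have h' : π (g * c * g⁻¹ * c⁻¹) = 1 := by
        rw [map_mul, map_mul, map_mul, map_inv, map_inv, h, mul_inv_cancel_right, mul_inv_cancel]
      rcases (hker _).1 h' with h'' | h''
      · exact Or.inl (mul_inv_eq_one.1 h'')
      · exact Or.inr (by rw [mul_inv_eq_iff_eq_mul] at h''; rw [h'', neg_one_mul])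
    have cba : b * a * b⁻¹ = -a := by rw [hab, neg_mul, mul_inv_cancel_right]
    have cab : a * b * a⁻¹ = -b := mul_inv_eq_iff_eq_mul.2 (by rw [neg_mul, hab, neg_neg])
    obtain ⟨y, hy, hya, hyb⟩ : ∃ y ∈ (S : Subgroup SL(2, F)),
        y * a * y⁻¹ = g * a * g⁻¹ ∧ y * b * y⁻¹ = g * b * g⁻¹ := by
      rcases hsign a haS with e0 | e0 <;> rcases hsign b hbS with e1 | e1 <;> rw [e0, e1]
      · exact ⟨1, one_mem _, by simp, by simp⟩
      · exact ⟨a, haS, mul_inv_cancel_right a a, cab⟩
      · exact ⟨b, hbS, cba, mul_inv_cancel_right b b⟩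
      · refine ⟨a * b, mul_mem haS hbS, ?_, ?_⟩
        · rw [show a * b * a * (a * b)⁻¹ = a * (b * a * b⁻¹) * a⁻¹ by group, cba]
          simp [mul_assoc]
        · rw [show a * b * b * (a * b)⁻¹ = a * b * a⁻¹ by group, cab]
    have hcm : ∀ c : SL(2, F), y * c * y⁻¹ = g * c * g⁻¹ → (y⁻¹ * g) * c = c * (y⁻¹ * g) := by
      intro c hc
      calc y⁻¹ * g * c = y⁻¹ * (g * c * g⁻¹) * g := by group
        _ = _ := by rw [← hc]; group
    have hne' : (a : Matrix (Fin 2) (Fin 2) F) * b ≠ b * a := by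
      intro h
      have h' : a * b = b * a := Subtype.ext h
      rw [hab] at h'
      have : (a * b) * (a * b)⁻¹ = -(a * b) * (a * b)⁻¹ := by rw [← h']
      rw [neg_mul, mul_inv_cancel] at this
      exact hne this.symm
    obtain ⟨c, hc⟩ := isScal_of_commute_two (M := ((y⁻¹ * g : SL(2, F)) : Matrix (Fin 2) (Fin 2) F)) hne'
      (congrArg Subtype.val (hcm a hya)) (congrArg Subtype.val (hcm b hyb))
    have hz : y⁻¹ * g ∈ Subgroup.center SL(2, F) := Subgroup.mem_center_iff.2 fun u => Subtype.ext (by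
      show (u : Matrix (Fin 2) (Fin 2) F) * ((y⁻¹ * g : SL(2, F)) : Matrix (Fin 2) (Fin 2) F) =
        ((y⁻¹ * g : SL(2, F)) : Matrix (Fin 2) (Fin 2) F) * (u : Matrix (Fin 2) (Fin 2) F)
      rw [hc]; simp)
    have e : π g = π y := by
      have : π (y⁻¹ * g) = 1 := (QuotientGroup.eq_one_iff _).2 hz
      rw [map_mul, map_inv, inv_mul_eq_one] at this
      exact this.symm
    rw [e]
    exact hSb.ge (Subgroup.mem_map_of_mem π hy)
  intro g hg
  set K := H ⊔ H.map (MulAut.conj g).toMonoidHom with hK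
  by_cases hgK : g ∈ K
  · exact ⟨g, hgK, rfl⟩
  have hHK : H ≤ K := le_sup_left
  have hVK : (Sb : Subgroup (ProjectiveSpecialLinearGroup (Fin 2) F)) ≤ K := hSbH.trans hHK
  -- the normaliser inside `K`
  have hNK : ∀ x ∈ K, x ∈ Subgroup.normalizer ((Sb : Subgroup (ProjectiveSpecialLinearGroup (Fin 2) F)) :
      Set (ProjectiveSpecialLinearGroup (Fin 2) F)) → x ∈ (Sb : Subgroup (ProjectiveSpecialLinearGroup (Fin 2) F)) := by
    set N := Subgroup.normalizer ((Sb : Subgroup (ProjectiveSpecialLinearGroup (Fin 2) F)) :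
      Set (ProjectiveSpecialLinearGroup (Fin 2) F))
    have hle : (Sb : Subgroup (ProjectiveSpecialLinearGroup (Fin 2) F)) ≤ K ⊓ N := le_inf hVK Subgroup.le_normalizer
    obtain ⟨k, hk⟩ : 4 ∣ Nat.card ↥(K ⊓ N) := hV4 ▸ Subgroup.card_dvd_of_le hle
    have hd : 4 * k ∣ 4 * 3 := by
      rw [← hk, show (4 : ℕ) * 3 = Nat.card N by rw [hN12]]
      exact Subgroup.card_dvd_of_le inf_le_right
    rcases (Nat.dvd_prime Nat.prime_three).1 (Nat.dvd_of_mul_dvd_mul_left (by norm_num) hd) with rfl | rfl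
    · have e := Subgroup.eq_of_le_of_card_ge hle (by rw [hV4, hk])
      exact fun x h1 h2 => e.ge ⟨h1, h2⟩
    · have e := Subgroup.eq_of_le_of_card_ge (inf_le_right : K ⊓ N ≤ N) (by rw [hk, hN12])
      exact absurd (inf_le_left (a := K) (e.ge hg)) hgK
  -- the normal complement
  let P : Sylow 2 K := Sb.subtype hVK
  have hPmem : ∀ x : K, x ∈ (P : Subgroup K) ↔ (x : ProjectiveSpecialLinearGroup (Fin 2) F) ∈ (Sb : Subgroup _) :=
    fun x => Iff.rfl
  have hPc : Subgroup.normalizer ((P : Subgroup K) : Set K) ≤ Subgroup.centralizer ((P : Subgroup K) : Set K) := by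
    intro x hx
    have hxN : (x : ProjectiveSpecialLinearGroup (Fin 2) F) ∈ Subgroup.normalizer
        ((Sb : Subgroup (ProjectiveSpecialLinearGroup (Fin 2) F)) : Set (ProjectiveSpecialLinearGroup (Fin 2) F)) := by
      refine mem_normalizer_of_forall fun z hz => ?_
      exact (Subgroup.mem_normalizer_iff.1 hx ⟨z, hVK hz⟩).1 hz
    refine Subgroup.mem_centralizer_iff.2 fun z hz => Subtype.ext ?_
    exact hVc _ hz _ (hNK _ x.2 hxN)
  have hcompl := MonoidHom.ker_transferSylow_isComplement' P hPc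
  set M := (MonoidHom.transferSylow P hPc).ker with hMdef
  have hP4 : Nat.card (P : Subgroup K) = 4 := by
    rw [← hV4]
    exact Nat.card_congr (Subgroup.subgroupOfEquivOfLe hVK).toEquiv
  have hMidx : M.index = 4 := by rw [hcompl.symm.index_eq_card, hP4]
  have hModd : Odd (Nat.card M) := by
    rw [← hcompl.index_eq_card]
    exact Nat.not_even_iff_odd.1 fun h => P.not_dvd_index (even_iff_two_dvd.1 h)
  have hoddmem : ∀ x : K, Odd (orderOf x) → x ∈ M := by
    intro x hx
    have h4 : x ^ 4 ∈ M := hMidx ▸ Subgroup.pow_index_mem M x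
    obtain ⟨j, hj⟩ := exists_pow_eq_self_of_coprime (x := x) (n := 4)
      (show Nat.Coprime 4 (orderOf x) from Nat.Coprime.pow_left 2 hx.coprime_two_left)
    rw [← hj]
    exact pow_mem h4 _
  -- lifting the complement
  set Mp := (M.map K.subtype).comap π with hMp
  set Z := π.ker.subgroupOf Mp with hZdef
  have hkerMp : π.ker ≤ Mp := fun z hz => by
    show π z ∈ M.map K.subtype
    rw [show π z = 1 from hz]
    exact one_mem _
  have hZc : Nat.card Z = 2 := by
    rw [Nat.card_congr (Subgroup.subgroupOfEquivOfLe hkerMp).toEquiv, hπ, QuotientGroup.ker_mk', hZ]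
  have hMpc : Nat.card Mp = 2 * Nat.card M := by
    rw [← hhalf Mp (M.map K.subtype) (by rw [hMp, Subgroup.index_comap_of_surjective _ hπs]),
      Subgroup.card_map_of_injective Subtype.val_injective]
  have hZi : Z.index = Nat.card M := by
    have := Z.card_mul_index
    rw [hZc, hMpc] at this
    omega
  obtain ⟨C, hC⟩ := Subgroup.exists_right_complement'_of_coprime (N := Z) (by
    rw [hZc, hZi]; exact hModd.coprime_two_left)
  have hCc : Nat.card C = Nat.card M := by
    have := hC.card_mul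
    rw [hZc, hMpc] at this
    omega
  have hC2 : C.index = 2 := by rw [hC.index_eq_card, hZc]
  have hCmem : ∀ x : Mp, Odd (orderOf x) → x ∈ C := by
    intro x hx
    obtain ⟨j, hj⟩ := hx
    have h2 : x * x ∈ C := Subgroup.mul_self_mem_of_index_two hC2 x
    have : x = (x * x) ^ (j + 1) := by
      rw [← pow_two, ← pow_mul, show 2 * (j + 1) = 2 * j + 1 + 1 by ring, pow_succ, ← hj, pow_orderOf_eq_one,
        one_mul]
    rw [this]
    exact pow_mem h2 _
  set M₀ := C.map Mp.subtype with hM₀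
  have hM₀odd : Odd (Nat.card M₀) := by
    rw [hM₀, Subgroup.card_map_of_injective Subtype.val_injective, hCc]
    exact hModd
  have hconj : ∀ s ∈ (S : Subgroup SL(2, F)), ∀ m ∈ M₀, s⁻¹ * m * s ∈ M₀ := by
    rintro s hs _ ⟨⟨m, hmMp⟩, hmC, rfl⟩
    obtain ⟨k, hk, hkm⟩ := (show π m ∈ M.map K.subtype from hmMp)
    have hsK : π s ∈ K := hVK (hSb.ge (Subgroup.mem_map_of_mem π hs))
    have hmem : s⁻¹ * m * s ∈ Mp := by
      show π (s⁻¹ * m * s) ∈ M.map K.subtype
      refine ⟨(⟨π s, hsK⟩ : K)⁻¹ * k * ⟨π s, hsK⟩, ?_, ?_⟩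
      · simpa using (inferInstance : M.Normal).conj_mem k hk (⟨π s, hsK⟩ : K)⁻¹
      · simp [← hkm]
    refine ⟨⟨_, hmem⟩, hCmem _ ?_, rfl⟩
    rw [← Subgroup.orderOf_coe]
    show Odd (orderOf (s⁻¹ * m * s))
    have he : orderOf (s⁻¹ * m * s) = orderOf m := by
      have := MulEquiv.orderOf_eq (MulAut.conj s⁻¹) m
      simpa using this
    rw [he]
    have hdvd : orderOf (⟨m, hmMp⟩ : Mp) ∣ Nat.card C := Subgroup.orderOf_dvd_natCard C hmC
    rw [← Subgroup.orderOf_coe] at hdvd
    exact (hCc ▸ hModd).of_dvd_nat hdvd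
  obtain ⟨z, hz, hzc⟩ := exists_centralising p h2 ha hb hab M₀ hM₀odd (hconj a haS) (hconj b hbS)
  have hzS : z ∈ (S : Subgroup SL(2, F)) := by
    rcases hz with rfl | rfl | rfl
    exacts [haS, hbS, mul_mem haS hbS]
  have hzz : z * z = -1 := by
    rcases hz with rfl | rfl | rfl
    · exact ha
    · exact hb
    · rw [show a * b * (a * b) = a * (b * a) * b by group, hab, mul_neg, neg_mul,
        show a * (a * b) * b = a * a * (b * b) by group, ha, hb]
      simp
  set v := π z with hv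
  have hvV : v ∈ (Sb : Subgroup (ProjectiveSpecialLinearGroup (Fin 2) F)) := hSb.ge (Subgroup.mem_map_of_mem π hzS)
  have hv1 : v ≠ 1 := by
    intro h
    rcases (hker z).1 h with rfl | rfl
    · exact hne (by rw [← hzz, one_mul])
    · exact hne (by rw [← hzz, neg_mul_neg, one_mul])
  have hMv : ∀ k ∈ M, (k : ProjectiveSpecialLinearGroup (Fin 2) F) * v = v * k := by
    intro k hk
    obtain ⟨x, hx⟩ := hπs (k : ProjectiveSpecialLinearGroup (Fin 2) F)
    have hxMp : x ∈ Mp := ⟨k, hk, hx.symm⟩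
    obtain ⟨⟨u, w⟩, he⟩ := hC.surjective ⟨x, hxMp⟩
    have hu : π (u : Mp) = 1 := u.2
    have hx' : π x = π (((w : Mp) : SL(2, F))) := by
      have e := congrArg (fun t : Mp => π (t : SL(2, F))) he
      simp only [Subgroup.coe_mul, map_mul] at e
      rw [← e, hu, one_mul]
    rw [← hx, hx', hv, ← map_mul, ← map_mul, hzc ((w : Mp) : SL(2, F)) ⟨w.1, w.2, rfl⟩]
  -- the three involutions are permuted cyclically
  set v' := g⁻¹ * v * g with hv'
  have hv'V : v' ∈ (Sb : Subgroup (ProjectiveSpecialLinearGroup (Fin 2) F)) :=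
    (Subgroup.mem_normalizer_iff''.1 hg v).1 hvV
  have hv'1 : v' ≠ 1 := by
    intro h
    apply hv1
    calc v = g * v' * g⁻¹ := by rw [hv']; group
      _ = 1 := by rw [h]; group
  have hfour : ∀ x y : ProjectiveSpecialLinearGroup (Fin 2) F, x ∈ (Sb : Subgroup _) → y ∈ (Sb : Subgroup _) →
      x ≠ 1 → y ≠ 1 → x ≠ y → ∀ t ∈ (Sb : Subgroup (ProjectiveSpecialLinearGroup (Fin 2) F)),
      t = 1 ∨ t = x ∨ t = y ∨ t = x * y := by
    intro x y hx hy hx1 hy1 hxy t ht
    have hsq : ∀ u ∈ (Sb : Subgroup (ProjectiveSpecialLinearGroup (Fin 2) F)), u * u = 1 := by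
      intro u hu
      rw [hSb] at hu
      obtain ⟨s, hs, rfl⟩ := hu
      rw [← map_mul, hker]
      obtain ⟨k, -, hfac, ⟨e⟩⟩ := CfsgLib.Classical.sl2_sylow_two hodd S
      have h4 : s ^ 4 = 1 := by
        by_contra h
        haveI : IsCyclic (S : Subgroup SL(2, F)) := by
          obtain ⟨j, -, hj⟩ := (Nat.dvd_prime_pow Nat.prime_two).1
            (show orderOf (⟨s, hs⟩ : (S : Subgroup SL(2, F))) ∣ 2 ^ 3 by
              rw [show (2 : ℕ) ^ 3 = Nat.card (S : Subgroup SL(2, F)) by rw [hS8]; rfl]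
              exact orderOf_dvd_natCard _)
          refine isCyclic_of_orderOf_eq_card (⟨s, hs⟩ : (S : Subgroup SL(2, F))) ?_
          rw [hS8, hj]
          have : ¬ j ≤ 2 := fun hle => h (by
            have h1 := pow_orderOf_eq_one (⟨s, hs⟩ : (S : Subgroup SL(2, F)))
            rw [hj] at h1
            have h1' : s ^ 2 ^ j = 1 := congrArg Subtype.val h1
            exact orderOf_dvd_iff_pow_eq_one.1
              ((orderOf_dvd_of_pow_eq_one h1').trans (pow_dvd_pow 2 hle)))
          obtain rfl : j = 3 := by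
            have := Nat.le_of_dvd (by norm_num) (hj ▸ (show orderOf (⟨s, hs⟩ : (S : Subgroup SL(2, F))) ∣ 2 ^ 3 by
              rw [show (2 : ℕ) ^ 3 = Nat.card (S : Subgroup SL(2, F)) by rw [hS8]; rfl]
              exact orderOf_dvd_natCard _))
            have : j ≤ 3 := (Nat.pow_le_pow_iff_right (by norm_num)).1 this
            omega
          rfl
        have hcm := (IsCyclic.isMulCommutative (α := (S : Subgroup SL(2, F)))).is_comm.comm ⟨a, haS⟩ ⟨b, hbS⟩
        have h' : a * b = b * a := congrArg Subtype.val hcm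
        rw [hab] at h'
        have h'' := congrArg (fun t => t * (a * b)⁻¹) h'
        simp only [neg_mul, mul_inv_cancel] at h''
        exact hne h''.symm
      by_cases hs1 : s * s = 1
      · exact Or.inl hs1
      · exact Or.inr (CfsgLib.Classical.sl2_eq_neg_one h2 hs1 (by
          rw [show (s * s) * (s * s) = s ^ 4 by simp [pow_succ, mul_assoc], h4]))
    haveI := Fintype.ofFinite (Sb : Subgroup (ProjectiveSpecialLinearGroup (Fin 2) F))
    have hcard : Fintype.card (Sb : Subgroup (ProjectiveSpecialLinearGroup (Fin 2) F)) = 4 := by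
      rw [← Nat.card_eq_fintype_card, hV4]
    have hxy1 : x * y ≠ 1 := fun h => hxy (mul_right_cancel (h.trans (hsq y hy).symm))
    let T : Finset (Sb : Subgroup (ProjectiveSpecialLinearGroup (Fin 2) F)) :=
      {1, ⟨x, hx⟩, ⟨y, hy⟩, ⟨x * y, mul_mem hx hy⟩}
    have hT : T = Finset.univ := by
      refine Finset.eq_univ_of_card _ ?_
      rw [hcard, Finset.card_eq_four]
      refine ⟨_, _, _, _, ?_, ?_, ?_, ?_, ?_, ?_, rfl⟩ <;> intro h <;> replace h := congrArg Subtype.val h
      · exact hx1 h.symm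
      · exact hy1 h.symm
      · exact hxy1 h.symm
      · exact hxy h
      · exact hy1 (mul_eq_left.1 h.symm)
      · exact hx1 (mul_eq_right.1 h.symm)
    have htT : (⟨t, ht⟩ : (Sb : Subgroup (ProjectiveSpecialLinearGroup (Fin 2) F))) ∈ T := hT ▸ Finset.mem_univ _
    simp only [T, Finset.mem_insert, Finset.mem_singleton, Subtype.ext_iff, OneMemClass.coe_one] at htT
    exact htT
  have hvne : v ≠ v' := by
    intro heq
    apply hgK
    refine hVK (hCent g ?_)
    have hgv : g * v = v * g := by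
      conv_lhs => rw [heq, hv']
      group
    by_cases hall : ∀ u ∈ (Sb : Subgroup (ProjectiveSpecialLinearGroup (Fin 2) F)), u = 1 ∨ u = v
    · intro u hu
      rcases hall u hu with rfl | rfl
      exacts [by simp, hgv]
    push Not at hall
    obtain ⟨u, hu, hu1, huv⟩ := hall
    have hu' := (Subgroup.mem_normalizer_iff.1 hg u).1 hu
    have hgu : g * u = u * g := by
      rcases hfour v u hvV hu hv1 hu1 (Ne.symm huv) _ hu' with h | h | h | h
      · exact absurd (mul_left_cancel ((mul_inv_eq_one.1 h).trans (mul_one g).symm)) hu1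
      · exfalso
        apply huv
        rw [mul_inv_eq_iff_eq_mul, ← hgv] at h
        exact mul_left_cancel h
      · exact mul_inv_eq_iff_eq_mul.1 h
      · exfalso
        have hg3 : g ^ 3 ∈ (Sb : Subgroup (ProjectiveSpecialLinearGroup (Fin 2) F)) := by
          have hi : ((Sb : Subgroup (ProjectiveSpecialLinearGroup (Fin 2) F)).subgroupOf (Subgroup.normalizer
              ((Sb : Subgroup (ProjectiveSpecialLinearGroup (Fin 2) F)) : Set (ProjectiveSpecialLinearGroup (Fin 2) F)))).index = 3 := by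
            have := ((Sb : Subgroup (ProjectiveSpecialLinearGroup (Fin 2) F)).subgroupOf (Subgroup.normalizer
              ((Sb : Subgroup (ProjectiveSpecialLinearGroup (Fin 2) F)) : Set (ProjectiveSpecialLinearGroup (Fin 2) F)))).card_mul_index
            rw [Nat.card_congr (Subgroup.subgroupOfEquivOfLe Subgroup.le_normalizer).toEquiv, hV4, hN12] at this
            omega
          have hm := Subgroup.pow_index_mem ((Sb : Subgroup (ProjectiveSpecialLinearGroup (Fin 2) F)).subgroupOf (Subgroup.normalizer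
              ((Sb : Subgroup (ProjectiveSpecialLinearGroup (Fin 2) F)) : Set (ProjectiveSpecialLinearGroup (Fin 2) F)))) ⟨g, hg⟩
          rw [hi] at hm
          exact hm
        have hvv : g * v * g⁻¹ = v := by rw [hgv, mul_inv_cancel_right]
        have hv2 : v * v = 1 := by rw [hv, ← map_mul, hzz, hker]; exact Or.inr rfl
        have e3 : g ^ 3 * u * (g ^ 3)⁻¹ = v * u := by
          calc g ^ 3 * u * (g ^ 3)⁻¹ = g * (g * (g * u * g⁻¹) * g⁻¹) * g⁻¹ := by
                rw [pow_succ, pow_two]; group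
            _ = g * ((g * v * g⁻¹) * (g * u * g⁻¹)) * g⁻¹ := by
                rw [show g * (g * u * g⁻¹) * g⁻¹ = g * (v * u) * g⁻¹ by rw [h]]; group
            _ = g * u * g⁻¹ := by rw [hvv, h, ← mul_assoc v v u, hv2, one_mul, h]
            _ = v * u := h
        rw [hVc _ hg3 u hu, mul_inv_cancel_right] at e3
        exact hv1 (mul_eq_right.1 e3.symm)
    intro t ht
    rcases hfour v u hvV hu hv1 hu1 (Ne.symm huv) t ht with rfl | rfl | rfl | rfl
    · simp
    · exact hgv
    · exact hgu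
    · rw [← mul_assoc, hgv, mul_assoc, hgu, mul_assoc]
  -- hence `H` is the four group
  have hHV : H ≤ (Sb : Subgroup (ProjectiveSpecialLinearGroup (Fin 2) F)) := by
    intro h hh
    obtain ⟨⟨m, s⟩, he⟩ := hcompl.surjective ⟨h, hHK hh⟩
    have hsV : ((s : K) : ProjectiveSpecialLinearGroup (Fin 2) F) ∈
        (Sb : Subgroup (ProjectiveSpecialLinearGroup (Fin 2) F)) := (hPmem _).1 s.2
    have he' : ((m : K) : ProjectiveSpecialLinearGroup (Fin 2) F) * ((s : K) : ProjectiveSpecialLinearGroup (Fin 2) F) = h :=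
      congrArg Subtype.val he
    set mm := ((m : K) : ProjectiveSpecialLinearGroup (Fin 2) F) with hmm
    have hmH : mm ∈ H := by
      rw [show mm = h * ((s : K) : ProjectiveSpecialLinearGroup (Fin 2) F)⁻¹ by rw [← he']; group]
      exact mul_mem hh (inv_mem (hSbH hsV))
    have hmodd : Odd (orderOf mm) := by
      rw [hmm, Subgroup.orderOf_coe, Subgroup.orderOf_coe]
      exact hModd.of_dvd_nat (orderOf_dvd_natCard _)
    have hgm : g * mm * g⁻¹ ∈ K := Subgroup.mem_sup_right ⟨mm, hmH, rfl⟩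
    have hgmM : (⟨g * mm * g⁻¹, hgm⟩ : K) ∈ M := hoddmem _ (by
      rw [← Subgroup.orderOf_coe]
      show Odd (orderOf (MulAut.conj g mm))
      rwa [MulEquiv.orderOf_eq])
    have e1 : mm * v = v * mm := hMv _ m.2
    have e2 : mm * v' = v' * mm := by
      have := hMv _ hgmM
      calc mm * v' = g⁻¹ * (g * mm * g⁻¹ * v) * g := by rw [hv']; group
        _ = g⁻¹ * (v * (g * mm * g⁻¹)) * g := by rw [this]
        _ = v' * mm := by rw [hv']; group
    have hmV : mm ∈ (Sb : Subgroup (ProjectiveSpecialLinearGroup (Fin 2) F)) := hCent mm fun t ht => by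
      rcases hfour v v' hvV hv'V hv1 hv'1 hvne t ht with rfl | rfl | rfl | rfl
      · simp
      · exact e1
      · exact e2
      · rw [← mul_assoc, e1, mul_assoc, e2, ← mul_assoc]
    exact he' ▸ mul_mem hmV hsV
  refine ⟨1, one_mem _, ?_⟩
  rw [show H = (Sb : Subgroup (ProjectiveSpecialLinearGroup (Fin 2) F)) from le_antisymm hHV hSbH]
  refine le_antisymm ?_ ?_
  · rintro _ ⟨t, ht, rfl⟩
    exact ⟨_, (Subgroup.mem_normalizer_iff.1 hg t).1 ht, by simp⟩
  · rintro _ ⟨t, ht, rfl⟩
    exact ⟨g⁻¹ * t * g, (Subgroup.mem_normalizer_iff''.1 hg t).1 ht, by simp [mul_assoc]⟩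

end CfsgLib.KnownC.Pronormal
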