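import Cfsg.Agent.Lib.KnownC.Pronormal.BaseTwo
import Cfsg.Agent.Lib.Classical.Dickson.Main
import Cfsg.Agent.Lib.Classical.Dickson.PSL

/-!
An odd order subgroup of `SL(2, q)` normalised by a quaternion group is centralised by one of its generators.
-/

set_option autoImplicit false
set_option linter.style.haveILetI false
set_option linter.unusedSectionVars false

namespace CfsgLib.KnownC.Pronormal

open Matrix CfsgLib.Classical.Dickson
open scoped MatrixGroups

variable {F : Type*} [Field F] [Fintype F]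

local notation "Mat" => Matrix (Fin 2) (Fin 2) F

theorem slm {R : Type*} [CommRing R] (u v : SL(2, R)) :
    ((u * v : SL(2, R)) : Matrix (Fin 2) (Fin 2) R) = (u : Matrix (Fin 2) (Fin 2) R) * (v : Matrix (Fin 2) (Fin 2) R) := rfl

theorem slone : ((1 : SL(2, F)) : Mat) = 1 := rfl

/-- Two matrices with two common independent eigenvectors commute. -/
theorem commute_of_eigen {A B : Mat} {e f : Fin 2 → F} (hind : e 0 * f 1 - e 1 * f 0 ≠ 0)
    {a a' b b' : F} (hAe : A *ᵥ e = a • e) (hAf : A *ᵥ f = a' • f) (hBe : B *ᵥ e = b • e) (hBf : B *ᵥ f = b' • f) :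
    A * B = B * A := by
  set P : Mat := !![e 0, f 0; e 1, f 1] with hP
  have hPd : IsUnit P.det := by
    rw [hP, det_fin_two_of]
    exact isUnit_iff_ne_zero.2 (fun h => hind (by linear_combination h))
  have key : ∀ {M : Mat} {x y : F}, M *ᵥ e = x • e → M *ᵥ f = y • f → M * P = P * diagonal ![x, y] := by
    intro M x y he hf
    have e0 := congrFun he 0
    have e1 := congrFun he 1
    have f0 := congrFun hf 0
    have f1 := congrFun hf 1
    simp [Matrix.mulVec, dotProduct, Fin.sum_univ_two] at e0 e1 f0 f1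
    ext i j
    fin_cases i <;> fin_cases j <;> simp [hP, Matrix.mul_apply, Fin.sum_univ_two]
    · linear_combination e0
    · linear_combination f0
    · linear_combination e1
    · linear_combination f1
  have hA := key hAe hAf
  have hB := key hBe hBf
  have hc : A * B * P = B * A * P := by
    rw [Matrix.mul_assoc, hB, Matrix.mul_assoc B A P, hA, ← Matrix.mul_assoc, hA, ← Matrix.mul_assoc B, hB,
      Matrix.mul_assoc, Matrix.mul_assoc, diagonal_mul_diagonal, diagonal_mul_diagonal]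
    congr 2
    funext i
    exact mul_comm _ _
  have := congrArg (fun M => M * P⁻¹) hc
  simpa [Matrix.mul_assoc, Matrix.mul_nonsing_inv P hPd] using this

theorem exists_line_of_fixed [DecidableEq F] (x : OnePoint F) : ∃ e : Fin 2 → F, e ≠ 0 ∧
    ∀ g : GL (Fin 2) F, g • x = x → ∃ l : F, (g : Mat) *ᵥ e = l • e := by
  induction x using OnePoint.rec with
  | infty =>
    refine ⟨![1, 0], fun h => one_ne_zero (congrFun h 0), fun g hg => ?_⟩
    rw [OnePoint.smul_infty_eq_ite] at hg
    split_ifs at hg with h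
    · refine ⟨(g : Mat) 0 0, ?_⟩
      ext i
      fin_cases i
      · simp
      · simpa using h
    · exact absurd hg (OnePoint.coe_ne_infty _)
  | coe t =>
    refine ⟨![t, 1], fun h => one_ne_zero (congrFun h 1), fun g hg => ?_⟩
    rw [OnePoint.smul_some_eq_ite] at hg
    split_ifs at hg with h
    · exact absurd hg (OnePoint.infty_ne_coe _)
    · refine ⟨(g : Mat) 1 0 * t + (g : Mat) 1 1, ?_⟩
      rw [OnePoint.coe_eq_coe, div_eq_iff h] at hg
      ext i
      fin_cases i
      · simp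
        linear_combination hg
      · simp

/-- A quaternion pair has no common eigenvector. -/
theorem exists_moving {a b : Mat} (ha : a * a = -1) (hab : b * a = -(a * b)) (hb : b * b = -1)
    (h2 : (2 : F) ≠ 0) {e : Fin 2 → F} (he : e ≠ 0) :
    ∃ z : Mat, (z = a ∨ z = b) ∧ ∀ l : F, z *ᵥ e ≠ l • e := by
  by_contra hcon
  push Not at hcon
  obtain ⟨α, hα⟩ := hcon a (Or.inl rfl)
  obtain ⟨β, hβ⟩ := hcon b (Or.inr rfl)
  have h1 : b *ᵥ (a *ᵥ e) = -(a *ᵥ (b *ᵥ e)) := by rw [mulVec_mulVec, mulVec_mulVec, hab, neg_mulVec]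
  have ha' : a *ᵥ (a *ᵥ e) = -e := by rw [mulVec_mulVec, ha, neg_mulVec, one_mulVec]
  have hb' : b *ᵥ (b *ᵥ e) = -e := by rw [mulVec_mulVec, hb, neg_mulVec, one_mulVec]
  rw [hα, mulVec_smul, hβ, mulVec_smul, hα, smul_smul, smul_smul] at h1
  rw [hα, mulVec_smul, hα, smul_smul] at ha'
  rw [hβ, mulVec_smul, hβ, smul_smul] at hb'
  obtain ⟨i, hi⟩ := Function.ne_iff.1 he
  have e1 := congrFun h1 i
  have e2 := congrFun ha' i
  have e3 := congrFun hb' i
  simp only [Pi.smul_apply, Pi.neg_apply, smul_eq_mul] at e1 e2 e3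
  refine hi ((mul_eq_zero.1 (show (2 : F) * e i = 0 from ?_)).resolve_left h2)
  linear_combination (α * β) * e1 - (β * β) * 2 * e2 + 2 * e3

variable (p : ℕ) [Fact p.Prime] [CharP F p]

include p in
/-- Odd order subgroups normalised by a quaternion pair are commutative. -/
theorem odd_commutative [DecidableEq F] (h2 : (2 : F) ≠ 0) {a b : SL(2, F)} (ha : a * a = -1) (hb : b * b = -1)
    (hab : b * a = -(a * b)) (M : Subgroup SL(2, F)) (hM : Odd (Nat.card M))
    (hna : ∀ m ∈ M, a⁻¹ * m * a ∈ M) (hnb : ∀ m ∈ M, b⁻¹ * m * b ∈ M) :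
    ∀ m ∈ M, ∀ m' ∈ M, m * m' = m' * m := by
  classical
  have hone : ∀ {m : SL(2, F)}, m ∈ M → m * m = 1 → m = 1 := by
    intro m hm h
    have h1 : m ^ Nat.card M = 1 := orderOf_dvd_iff_pow_eq_one.1 (Subgroup.orderOf_dvd_natCard M hm)
    have h3 := pow_gcd_eq_one.2 ⟨h1, (sq m).trans h⟩
    rwa [hM.coprime_two_right.gcd_eq_one, pow_one] at h3
  let f : M →* ProjGenLinGroup (Fin 2) F := SpecialLinearGroup.toPGL.comp M.subtype
  have hf : Function.Injective f := by
    rw [← MonoidHom.ker_eq_bot_iff, eq_bot_iff]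
    intro m hm
    have hmc : (m : SL(2, F)) ∈ Subgroup.center (SL(2, F)) := by
      rw [← SpecialLinearGroup.toPGL_ker]; exact hm
    obtain ⟨r, hr, hrm⟩ := Matrix.SpecialLinearGroup.mem_center_iff.1 hmc
    refine Subgroup.mem_bot.2 (Subtype.ext (hone m.2 (Subtype.ext ?_)))
    rw [slm, ← hrm, ← map_mul, slone]
    rw [Fintype.card_fin, pow_two] at hr
    rw [hr, map_one]
  set G := f.range with hG
  let E : M ≃* G := MonoidHom.ofInjective hf
  have hGodd : Odd (Nat.card G) := by rwa [← Nat.card_congr E.toEquiv]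
  have hw : ∀ {A : Subfield F}, ∀ x : ProjGenLinGroup (Fin 2) F,
      x = ProjGenLinGroup.map A.subtype (SpecialLinearGroup.toPGL
        (⟨!![0, 1; -1, 0], by simp [det_fin_two]⟩ : SL(2, A))) → x * x = 1 ∧ x ≠ 1 := by
    rintro A x rfl
    refine ⟨?_, ?_⟩
    · set w : SL(2, A) := ⟨!![0, 1; -1, 0], by simp [det_fin_two]⟩
      have e : w * w = -1 := Subtype.ext (show (!![0, 1; -1, 0] : Matrix (Fin 2) (Fin 2) A) * !![0, 1; -1, 0] = -1 by
        ext i j; fin_cases i <;> fin_cases j <;> simp [Matrix.mul_apply, Fin.sum_univ_two])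
      have e' : SpecialLinearGroup.toPGL (-1 : SL(2, A)) = 1 := by
        rw [← MonoidHom.mem_ker, SpecialLinearGroup.toPGL_ker]
        exact Subgroup.mem_center_iff.2 fun g => by simp
      rw [← map_mul]
      exact (congrArg _ ((map_mul SpecialLinearGroup.toPGL _ _).symm.trans
        ((congrArg _ e).trans e'))).trans (map_one _)
    · intro h
      change ProjGenLinGroup.map A.subtype (ProjGenLinGroup.mk _) = 1 at h
      rw [ProjGenLinGroup.map_mk, ProjGenLinGroup.mk_eq_one] at h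
      have h' := Subgroup.mem_center_iff.1 h
        (GeneralLinearGroup.mkOfDetNeZero !![(1 : F), 1; 0, 1] (by simp [det_fin_two]))
      have := congrArg (fun g : GL (Fin 2) F => (g : Mat) 0 0) h'
      simp [Matrix.mul_apply, Fin.sum_univ_two, GeneralLinearGroup.val_mkOfDetNeZero, Matrix.SpecialLinearGroup.toGL] at this
  have hno : ∀ g ∈ G, g * g = 1 → g = 1 := by
    rintro g ⟨m, rfl⟩ h
    rw [← map_mul, ← map_one f] at h
    rw [show m = 1 from Subtype.ext (hone m.2 (congrArg Subtype.val (hf h))), map_one]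
  have hrange : ∀ (A : Subfield F) (h : ProjGenLinGroup (Fin 2) F),
      ProjGenLinGroup.map A.subtype (SpecialLinearGroup.toPGL
        (⟨!![0, 1; -1, 0], by simp [det_fin_two]⟩ : SL(2, A))) ∈ G.map (MulAut.conj h).toMonoidHom → False := by
    intro A h hmem
    obtain ⟨g, hg, hgx⟩ := hmem
    obtain ⟨e1, e2⟩ := hw _ hgx
    apply e2
    rw [show g = 1 from hno g hg ((MulAut.conj h).injective (by rw [map_mul, map_one]; exact e1)), map_one]
  rcases kind p G with ⟨x, hx⟩ | ⟨c, hc, -⟩ | ⟨c, -, -, -, ⟨e⟩⟩ | ⟨⟨e⟩⟩ | ⟨⟨e⟩⟩ | ⟨⟨e⟩⟩ | ⟨A, h, hA⟩ | ⟨A, -, h, hA⟩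
  · obtain ⟨e, he, hline⟩ := exists_line_of_fixed x
    have hfix : ∀ m ∈ M, ∃ l : F, (m : Mat) *ᵥ e = l • e := by
      intro m hm
      have := hx _ ⟨⟨m, hm⟩, rfl⟩
      change ProjGenLinGroup.mk (SpecialLinearGroup.toGL m) • x = x at this
      rw [mk_smul] at this
      exact hline (SpecialLinearGroup.toGL m) this
    have hcoe : ∀ {u v : SL(2, F)}, (u * v : SL(2, F)).1 = u.1 * v.1 := fun {u v} => rfl
    have hA1 : (a : Mat) * a = -1 := by simpa using congrArg Subtype.val ha
    have hB1 : (b : Mat) * b = -1 := by simpa using congrArg Subtype.val hb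
    have hAB : (b : Mat) * a = -((a : Mat) * b) := by simpa using congrArg Subtype.val hab
    obtain ⟨z, hz, hmove⟩ := exists_moving hA1 hAB hB1 h2 he
    obtain ⟨s, hs, rfl⟩ : ∃ s : SL(2, F), (∀ m ∈ M, s⁻¹ * m * s ∈ M) ∧ z = s := by
      rcases hz with rfl | rfl
      exacts [⟨a, hna, rfl⟩, ⟨b, hnb, rfl⟩]
    have hind : e 0 * ((s : Mat) *ᵥ e) 1 - e 1 * ((s : Mat) *ᵥ e) 0 ≠ 0 := by
      intro h
      obtain ⟨i, hi⟩ := Function.ne_iff.1 he
      refine hmove (((s : Mat) *ᵥ e) i / e i) (funext fun j => ?_)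
      rw [Pi.smul_apply, smul_eq_mul, div_mul_eq_mul_div, eq_div_iff hi]
      fin_cases i <;> fin_cases j <;>
        simp only [Fin.zero_eta, Fin.mk_one] <;> first | linear_combination h | linear_combination -h | ring
    have hfix2 : ∀ m ∈ M, ∃ l : F, (m : Mat) *ᵥ ((s : Mat) *ᵥ e) = l • ((s : Mat) *ᵥ e) := by
      intro m hm
      obtain ⟨l, hl⟩ := hfix _ (hs m hm)
      refine ⟨l, ?_⟩
      rw [← mulVec_smul, ← hl, mulVec_mulVec, mulVec_mulVec, ← hcoe, ← hcoe,
        show s * (s⁻¹ * m * s) = m * s by group]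
    intro m hm m' hm'
    obtain ⟨l1, h1⟩ := hfix m hm
    obtain ⟨l2, h2'⟩ := hfix2 m hm
    obtain ⟨l3, h3⟩ := hfix m' hm'
    obtain ⟨l4, h4⟩ := hfix2 m' hm'
    exact Subtype.ext (commute_of_eigen hind h1 h2' h3 h4)
  · intro m hm m' hm'
    have hmem : ∀ u : M, f u ∈ Subgroup.zpowers c := fun u => hc.le ⟨u, rfl⟩
    obtain ⟨i, hi⟩ := hmem ⟨m, hm⟩
    obtain ⟨j, hj⟩ := hmem ⟨m', hm'⟩
    refine congrArg Subtype.val (hf (?_ : f (⟨m, hm⟩ * ⟨m', hm'⟩) = f (⟨m', hm'⟩ * ⟨m, hm⟩)))
    rw [map_mul, map_mul, ← hi, ← hj]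
    exact (Commute.refl c).zpow_zpow i j
  · exfalso
    rw [Nat.card_congr e.toEquiv, DihedralGroup.nat_card] at hGodd
    exact Nat.not_odd_iff_even.2 (even_two_mul _) hGodd
  · exfalso
    rw [Nat.card_congr e.toEquiv, nat_card_alternatingGroup, Nat.card_fin] at hGodd
    simp [Nat.factorial, Nat.odd_iff] at hGodd
  · exfalso
    rw [Nat.card_congr e.toEquiv, Nat.card_perm, Nat.card_fin] at hGodd
    simp [Nat.factorial, Nat.odd_iff] at hGodd
  · exfalso
    rw [Nat.card_congr e.toEquiv, nat_card_alternatingGroup, Nat.card_fin] at hGodd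
    simp [Nat.factorial, Nat.odd_iff] at hGodd
  · exact (hrange A h (hA ▸ ⟨_, rfl⟩)).elim
  · exact (hrange A h (hA ▸ ⟨_, rfl⟩)).elim

include p in
/-- One of `a`, `b`, `a * b` centralises an odd order subgroup normalised by `a` and `b`. -/
theorem exists_centralising [DecidableEq F] (h2 : (2 : F) ≠ 0) {a b : SL(2, F)} (ha : a * a = -1) (hb : b * b = -1)
    (hab : b * a = -(a * b)) (M : Subgroup SL(2, F)) (hM : Odd (Nat.card M))
    (hna : ∀ m ∈ M, a⁻¹ * m * a ∈ M) (hnb : ∀ m ∈ M, b⁻¹ * m * b ∈ M) :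
    ∃ z : SL(2, F), (z = a ∨ z = b ∨ z = a * b) ∧ ∀ m ∈ M, z * m = m * z := by
  classical
  have hcomm := odd_commutative p h2 ha hb hab M hM hna hnb
  by_cases hbot : ∀ m ∈ M, ∃ c : F, (m : Mat) = c • 1
  · refine ⟨a, Or.inl rfl, fun m hm => Subtype.ext ?_⟩
    obtain ⟨c, hc⟩ := hbot m hm
    simp [hc]
  push Not at hbot
  obtain ⟨m, hm, hns⟩ := hbot
  have key : ∀ s : SL(2, F), s * s = -1 → (∀ u ∈ M, s⁻¹ * u * s ∈ M) →
      ∃ y c : F, (s : Mat) * m = (y • (m : Mat) + c • 1) * s ∧ (y = 1 ∨ y = -1) := by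
    intro s hs hn
    have hX : s * m * s⁻¹ ∈ M := by
      have hs' : s⁻¹ = -s := inv_eq_of_mul_eq_one_right (by rw [mul_neg, hs, neg_neg])
      have := hn m hm
      rw [hs'] at this ⊢
      simpa [mul_assoc] using this
    have hconj : s * (s * m * s⁻¹) = m * s := by
      rw [← mul_assoc, ← mul_assoc, hs, neg_mul, one_mul, neg_mul,
        show s⁻¹ = -s from inv_eq_of_mul_eq_one_right (by rw [mul_neg, hs, neg_neg]), mul_neg, neg_neg]
    set X := ((s * m * s⁻¹ : SL(2, F)) : Mat) with hXdef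
    have hXc : (m : Mat) * X = X * m := congrArg Subtype.val (hcomm m hm _ hX)
    obtain ⟨k, hk⟩ : ∃ k, vec3 (m : Mat) k ≠ 0 := by
      by_contra hall
      push Not at hall
      have e0 := hall 0
      have e1 := hall 1
      have e2 := hall 2
      simp [vec3] at e0 e1 e2
      refine hns ((m : Mat) 0 0) ?_
      ext i j; fin_cases i <;> fin_cases j <;> simp [e1, e2, sub_eq_zero.1 e0]
    set y := vec3 X k / vec3 (m : Mat) k with hy
    have hv : ∀ i, vec3 X i = y * vec3 (m : Mat) i := by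
      intro i
      rw [hy, div_mul_eq_mul_div, eq_div_iff hk]
      linear_combination vec3_cross_of_commute hXc k i
    set c := X 0 0 - y * (m : Mat) 0 0 with hcdef
    have hXe : X = y • (m : Mat) + c • (1 : Mat) := by
      have e0 := hv 0
      have e1 := hv 1
      have e2 := hv 2
      simp [vec3] at e0 e1 e2
      ext i j
      fin_cases i <;> fin_cases j <;> simp [hcdef]
      · exact e1
      · exact e2
      · linear_combination -e0
    refine ⟨y, c, ?_, ?_⟩
    · rw [← hXe, hXdef, ← slm, ← slm, inv_mul_cancel_right]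
    · have h' : (s : Mat) * X = (m : Mat) * s := by
        rw [hXdef, ← slm, ← slm, hconj]
      have hsm : (s : Mat) * m = X * s := by
        rw [hXdef, ← slm, ← slm, inv_mul_cancel_right]
      rw [hXe, Matrix.mul_add, Matrix.mul_smul, Matrix.mul_smul, Matrix.mul_one, hsm, hXe] at h'
      have hz : ((1 - y * y) • (m : Mat)) = (y * c + c) • (1 : Mat) := by
        have hunit : (s : Mat) * ((s⁻¹ : SL(2, F)) : Mat) = 1 := by
          rw [← slm, mul_inv_cancel, slone]
        have h'' := congrArg (fun Z : Mat => Z * ((s⁻¹ : SL(2, F)) : Mat)) h'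
        simp only [Matrix.add_mul, Matrix.smul_mul, Matrix.mul_assoc, hunit, Matrix.mul_one] at h''
        rw [smul_add, smul_smul, smul_smul] at h''
        linear_combination (norm := module) -h''
      by_cases hy1 : y * y = 1
      · exact mul_self_eq_one_iff.1 hy1
      · exfalso
        refine hns ((1 - y * y)⁻¹ * (y * c + c)) ?_
        rw [← smul_smul, ← hz, smul_smul, inv_mul_cancel₀ (sub_ne_zero.2 (Ne.symm hy1)), one_smul]
  have hplus : ∀ (s : SL(2, F)) (c : F), (s : Mat) * m = ((1 : F) • (m : Mat) + c • (1 : Mat)) * s →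
      ∀ u ∈ M, s * u = u * s := by
    intro s c h u hu
    have hc0 : c = 0 := by
      have hd : ((s * m * s⁻¹ : SL(2, F)) : Mat) = (m : Mat) + c • 1 := by
        rw [slm, slm, h, Matrix.mul_assoc,
          ← slm, mul_inv_cancel, slone, Matrix.mul_one, one_smul]
      have ht := congrArg Matrix.trace hd
      rw [slm, slm, Matrix.trace_mul_comm, ← Matrix.mul_assoc,
        ← slm, inv_mul_cancel, slone, Matrix.one_mul] at ht
      simp [Matrix.trace_add, Matrix.trace_fin_two] at ht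
      exact ht.resolve_right h2
    rw [hc0, one_smul, zero_smul, add_zero] at h
    refine Subtype.ext ?_
    rw [slm, slm]
    by_contra hne
    exact (fun ⟨c', hc'⟩ => hns c' hc') (isScal_of_commute_two hne h.symm (congrArg Subtype.val (hcomm m hm u hu)))
  obtain ⟨ya, ca, hea, hya⟩ := key a ha hna
  obtain ⟨yb, cb, heb, hyb⟩ := key b hb hnb
  rcases hya with rfl | rfl
  · exact ⟨a, Or.inl rfl, hplus a ca hea⟩
  rcases hyb with rfl | rfl
  · exact ⟨b, Or.inr (Or.inl rfl), hplus b cb heb⟩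
  refine ⟨a * b, Or.inr (Or.inr rfl), hplus (a * b) (cb - ca) ?_⟩
  rw [slm, Matrix.mul_assoc, heb, ← Matrix.mul_assoc, Matrix.mul_add, Matrix.mul_smul,
    Matrix.mul_smul, Matrix.mul_one, hea, ← Matrix.mul_assoc]
  congr 1
  simp only [Matrix.add_mul, Matrix.smul_mul, Matrix.one_mul, Matrix.neg_mul, Matrix.sub_mul]
  module

end CfsgLib.KnownC.Pronormal
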