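import Cfsg.Agent.Lib.KnownC.Pronormal.Basic

/-!
Doubling step for the normalisers of Sylow `2`-subgroups: from a group of `n × n` matrices to its wreath
product with a group of order two inside `2n × 2n` matrices.
-/

set_option autoImplicit false
set_option linter.style.haveILetI false
set_option linter.unusedSectionVars false
set_option linter.unusedDecidableInType false

namespace CfsgLib.KnownC.Pronormal

open Matrix

variable {K : Type*} [Field K] {ι κ : Type*} [Fintype ι] [DecidableEq ι] [Fintype κ] [DecidableEq κ]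

local notation "Gdet" => Matrix.GeneralLinearGroup.det

/-- A scalar matrix. -/
def IsScal (M : Matrix ι ι K) : Prop := ∃ c : K, M = c • 1

theorem IsScal.commute {M : Matrix ι ι K} (h : IsScal M) (N : Matrix ι ι K) : M * N = N * M := by
  obtain ⟨c, rfl⟩ := h
  simp

/-- A Sylow `2`-subgroup containing `-1` with scalar centraliser (of its determinant one part), whose
normalising elements of odd order are scalar. -/
def Good (X : Subgroup (GL ι K)) : Prop :=
  ∃ S : Subgroup (GL ι K), S ≤ X ∧ Nat.card S = 2 ^ (Nat.card X).factorization 2 ∧ -1 ∈ S ∧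
    (∀ M : Matrix ι ι K, (∀ s ∈ S, Gdet s = 1 → M * (s : Matrix ι ι K) = s * M) → IsScal M) ∧
    ∀ g ∈ X, Odd (orderOf g) → (∀ s ∈ S, g * s * g⁻¹ ∈ S) → IsScal (g : Matrix ι ι K)

/-- As `Good`, normalising only the determinant one part. -/
def StrongGood (X : Subgroup (GL ι K)) : Prop :=
  ∃ S : Subgroup (GL ι K), S ≤ X ∧ Nat.card S = 2 ^ (Nat.card X).factorization 2 ∧ -1 ∈ S ∧
    (∀ M : Matrix ι ι K, (∀ s ∈ S, Gdet s = 1 → M * (s : Matrix ι ι K) = s * M) → IsScal M) ∧
    ∀ g ∈ X, Odd (orderOf g) → (∀ s ∈ S, Gdet s = 1 → g * s * g⁻¹ ∈ S) → IsScal (g : Matrix ι ι K)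

theorem StrongGood.good {X : Subgroup (GL ι K)} (h : StrongGood X) : Good X := by
  obtain ⟨S, h1, h2, h3, h4, h5⟩ := h
  exact ⟨S, h1, h2, h3, h4, fun g hg ho hn => h5 g hg ho fun s hs _ => hn s hs⟩

/-- Renaming the basis. -/
noncomputable def reGL (e : ι ≃ κ) : GL ι K ≃* GL κ K :=
  Units.mapEquiv (Matrix.reindexAlgEquiv K K e).toMulEquiv

theorem coe_reGL (e : ι ≃ κ) (g : GL ι K) :
    (reGL e g : Matrix κ κ K) = (g : Matrix ι ι K).submatrix e.symm e.symm := rfl

theorem det_reGL (e : ι ≃ κ) (g : GL ι K) : Gdet (reGL e g) = Gdet g :=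
  Units.ext (by simp [coe_reGL])

theorem reGL_neg_one (e : ι ≃ κ) : reGL e (-1 : GL ι K) = -1 := by
  refine Units.ext ?_
  rw [coe_reGL]
  simp [Matrix.submatrix_neg, Matrix.submatrix_one_equiv]

theorem StrongGood.reindex {X : Subgroup (GL ι K)} (h : StrongGood X) (e : ι ≃ κ) :
    StrongGood (X.map (reGL e).toMonoidHom) := by
  obtain ⟨S, h1, h2, h3, h4, h5⟩ := h
  refine ⟨S.map (reGL e).toMonoidHom, Subgroup.map_mono h1, ?_, ?_, ?_, ?_⟩
  · rw [Subgroup.card_map_of_injective (f := (reGL e).toMonoidHom) (reGL e).injective,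
      Subgroup.card_map_of_injective (f := (reGL e).toMonoidHom) (reGL e).injective, h2]
  · exact ⟨-1, h3, reGL_neg_one e⟩
  · intro M hM
    let f := Matrix.reindexAlgEquiv K K e
    obtain ⟨c, hc⟩ := h4 (f.symm M) fun s hs hd => by
      apply f.injective
      rw [map_mul, map_mul, AlgEquiv.apply_symm_apply]
      exact hM _ ⟨s, hs, rfl⟩ ((det_reGL e s).trans hd)
    refine ⟨c, ?_⟩
    have := congrArg f hc
    rwa [AlgEquiv.apply_symm_apply, map_smul, map_one] at this
  · rintro _ ⟨g, hg, rfl⟩ ho hn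
    change Odd (orderOf (reGL e g)) at ho
    rw [MulEquiv.orderOf_eq] at ho
    obtain ⟨c, hc⟩ := h5 g hg ho fun s hs hd => by
      obtain ⟨t, ht, hte⟩ := hn _ ⟨s, hs, rfl⟩ ((det_reGL e s).trans hd)
      have : t = g * s * g⁻¹ := (reGL e).injective (by rw [map_mul, map_mul, map_inv]; exact hte)
      exact this ▸ ht
    refine ⟨c, ?_⟩
    have := congrArg (Matrix.reindexAlgEquiv K K e) hc
    rw [map_smul, map_one] at this
    exact this

/-- Block diagonal matrices. -/
noncomputable def bd : GL ι K × GL ι K →* GL (ι ⊕ ι) K where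
  toFun p := ⟨fromBlocks (p.1 : Matrix ι ι K) 0 0 (p.2 : Matrix ι ι K),
    fromBlocks (p.1⁻¹ : GL ι K).1 0 0 (p.2⁻¹ : GL ι K).1,
    by simp [fromBlocks_multiply], by simp [fromBlocks_multiply]⟩
  map_one' := Units.ext (by simp)
  map_mul' p r := Units.ext (by simp [fromBlocks_multiply])

theorem coe_bd (a b : GL ι K) :
    (bd (a, b) : Matrix (ι ⊕ ι) (ι ⊕ ι) K) = fromBlocks (a : Matrix ι ι K) 0 0 (b : Matrix ι ι K) := rfl

theorem bd_inj {a b a' b' : GL ι K} (h : bd (a, b) = bd (a', b')) : a = a' ∧ b = b' := by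
  have h' : fromBlocks (a : Matrix ι ι K) 0 0 (b : Matrix ι ι K)
      = fromBlocks (a' : Matrix ι ι K) 0 0 (b' : Matrix ι ι K) := congrArg Units.val h
  rw [fromBlocks_inj] at h'
  exact ⟨Units.ext h'.1, Units.ext h'.2.2.2⟩

theorem bd_mul (a b a' b' : GL ι K) : bd (a, b) * bd (a', b') = bd (a * a', b * b') := (map_mul bd _ _).symm

theorem bd_inv (a b : GL ι K) : (bd (a, b))⁻¹ = bd (a⁻¹, b⁻¹) := (map_inv bd _).symm

theorem neg_bd (a b : GL ι K) : -bd (a, b) = bd (-a, -b) :=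
  Units.ext (by simp [coe_bd, fromBlocks_neg])

theorem det_bd (a b : GL ι K) : Gdet (bd (a, b)) = Gdet a * Gdet b :=
  Units.ext (by simp [coe_bd, det_fromBlocks_zero₂₁])

theorem bd_neg_one : bd ((-1 : GL ι K), (-1 : GL ι K)) = -1 := by
  refine Units.ext ?_
  rw [coe_bd, Units.val_neg, Units.val_one, Units.val_neg, Units.val_one, ← fromBlocks_one, fromBlocks_neg]
  simp

/-- The block swap. -/
def sw : GL (ι ⊕ ι) K :=
  ⟨fromBlocks 0 1 1 0, fromBlocks 0 1 1 0, by simp [fromBlocks_multiply], by simp [fromBlocks_multiply]⟩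

theorem coe_sw : ((sw : GL (ι ⊕ ι) K) : Matrix (ι ⊕ ι) (ι ⊕ ι) K) = fromBlocks 0 1 1 0 := rfl

theorem sw_sq : (sw : GL (ι ⊕ ι) K) * sw = 1 :=
  Units.ext (by simp [coe_sw, fromBlocks_multiply])

theorem sw_inv : (sw : GL (ι ⊕ ι) K)⁻¹ = sw := inv_eq_of_mul_eq_one_right sw_sq

theorem sw_bd (a b : GL ι K) : sw * bd (a, b) = bd (b, a) * sw :=
  Units.ext (by simp [coe_sw, coe_bd, fromBlocks_multiply])

theorem bd_ne_bd_sw [Nonempty ι] (a b a' b' : GL ι K) : bd (a, b) ≠ bd (a', b') * sw := by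
  intro h
  have h' : fromBlocks (a : Matrix ι ι K) 0 0 (b : Matrix ι ι K)
      = fromBlocks 0 (a' : Matrix ι ι K) (b' : Matrix ι ι K) 0 := by
    rw [← coe_bd a b, h, Units.val_mul, coe_bd, coe_sw, fromBlocks_multiply]
    simp
  exact a.ne_zero (fromBlocks_inj.1 h').1

theorem det_sw (hι : Even (Fintype.card ι)) : Gdet (sw : GL (ι ⊕ ι) K) = 1 := by
  refine Units.ext ?_
  have e : fromBlocks (0 : Matrix ι ι K) (1 : Matrix ι ι K) (1 : Matrix ι ι K) (0 : Matrix ι ι K) =
      fromBlocks (1 : Matrix ι ι K) 0 1 1 * fromBlocks (1 : Matrix ι ι K) (-1) 0 1 *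
        fromBlocks (1 : Matrix ι ι K) 0 1 1 * fromBlocks (1 : Matrix ι ι K) 0 0 (-1) := by
    simp [fromBlocks_multiply]
  rw [Matrix.GeneralLinearGroup.val_det_apply, coe_sw, e, det_mul, det_mul, det_mul, det_fromBlocks_zero₁₂,
    det_fromBlocks_zero₂₁, det_fromBlocks_zero₂₁, det_neg, det_one, hι.neg_one_pow]
  simp

/-- The wreath product of `S` with the block swap. -/
def wreath (S : Subgroup (GL ι K)) : Subgroup (GL (ι ⊕ ι) K) where
  carrier := {g | ∃ a ∈ S, ∃ b ∈ S, g = bd (a, b) ∨ g = bd (a, b) * sw}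
  one_mem' := ⟨1, one_mem S, 1, one_mem S, Or.inl (map_one bd).symm⟩
  mul_mem' := by
    rintro _ _ ⟨a, ha, b, hb, rfl | rfl⟩ ⟨c, hc, d, hd, rfl | rfl⟩
    · exact ⟨_, mul_mem ha hc, _, mul_mem hb hd, Or.inl (bd_mul _ _ _ _)⟩
    · exact ⟨_, mul_mem ha hc, _, mul_mem hb hd, Or.inr (by rw [← mul_assoc, bd_mul])⟩
    · exact ⟨_, mul_mem ha hd, _, mul_mem hb hc,
        Or.inr (by rw [mul_assoc, sw_bd, ← mul_assoc, bd_mul])⟩
    · exact ⟨_, mul_mem ha hd, _, mul_mem hb hc, Or.inl (by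
        rw [mul_assoc, ← mul_assoc sw, sw_bd, mul_assoc _ sw sw, sw_sq, mul_one, bd_mul])⟩
  inv_mem' := by
    rintro _ ⟨a, ha, b, hb, rfl | rfl⟩
    · exact ⟨_, inv_mem ha, _, inv_mem hb, Or.inl (bd_inv a b)⟩
    · exact ⟨_, inv_mem hb, _, inv_mem ha, Or.inr (by rw [_root_.mul_inv_rev, bd_inv, sw_inv, sw_bd])⟩

theorem card_wreath [Finite K] [Nonempty ι] (S : Subgroup (GL ι K)) :
    Nat.card (wreath S) = 2 * Nat.card S * Nat.card S := by
  let f : Bool × S × S → wreath S := fun x =>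
    ⟨bd (x.2.1.1, x.2.2.1) * (if x.1 then sw else 1),
      x.2.1.1, x.2.1.2, x.2.2.1, x.2.2.2, by rcases x.1 <;> simp⟩
  have hf : Function.Bijective f := by
    constructor
    · rintro ⟨p, a, b⟩ ⟨p', a', b'⟩ h
      have h' := congrArg Subtype.val h
      cases p <;> cases p' <;> simp only [f, Bool.false_eq_true, if_false, if_true, mul_one] at h'
      · obtain ⟨e1, e2⟩ := bd_inj h'
        exact Prod.ext rfl (Prod.ext (Subtype.ext e1) (Subtype.ext e2))
      · exact absurd h' (bd_ne_bd_sw _ _ _ _)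
      · exact absurd h'.symm (bd_ne_bd_sw _ _ _ _)
      · obtain ⟨e1, e2⟩ := bd_inj (mul_right_cancel h')
        exact Prod.ext rfl (Prod.ext (Subtype.ext e1) (Subtype.ext e2))
    · rintro ⟨g, a, ha, b, hb, rfl | rfl⟩
      · exact ⟨(false, ⟨a, ha⟩, ⟨b, hb⟩), Subtype.ext (by simp [f])⟩
      · exact ⟨(true, ⟨a, ha⟩, ⟨b, hb⟩), Subtype.ext (by simp [f])⟩
  rw [← Nat.card_eq_of_bijective f hf, Nat.card_prod, Nat.card_prod, Nat.card_eq_fintype_card,
    Fintype.card_bool, mul_assoc]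

theorem neg_one_ne_one (h2 : (2 : K) ≠ 0) [Nonempty ι] : (-1 : GL ι K) ≠ 1 := by
  intro h
  obtain ⟨i⟩ := ‹Nonempty ι›
  have := congrArg (fun x : GL ι K => (x : Matrix ι ι K) i i) h
  simp at this
  exact h2 (by linear_combination -this)

theorem ne_neg_self (h2 : (2 : K) ≠ 0) [Nonempty ι] (g : GL ι K) : g ≠ -g := fun h => by
  refine neg_one_ne_one (ι := ι) h2 ?_
  have := congrArg (fun x => x * g⁻¹) h
  simpa [neg_mul] using this.symm

theorem bd_scal_sw_conj (g1 g2 : GL ι K) (h1 : IsScal (g1 : Matrix ι ι K)) (h2 : IsScal (g2 : Matrix ι ι K)) :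
    bd (g1, g2) * sw * (bd (g1, g2))⁻¹ = bd (g1 * g2⁻¹, g2 * g1⁻¹) * sw := by
  rw [bd_inv, mul_assoc, sw_bd, ← mul_assoc, bd_mul]

variable [Finite K]

/-- The doubling step. -/
theorem strongGood_double (h2 : (2 : K) ≠ 0) (hι : Even (Fintype.card ι)) [Nontrivial ι]
    (X : Subgroup (GL ι K)) (Y : Subgroup (GL (ι ⊕ ι) K))
    (hbd : ∀ a b, bd (a, b) ∈ Y ↔ a ∈ X ∧ b ∈ X) (hsw : sw ∈ Y)
    (hcard : (Nat.card Y).factorization 2 = 2 * (Nat.card X).factorization 2 + 1)
    (hX : Good X) : StrongGood Y := by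
  classical
  obtain ⟨S, hSX, hScard, hneg, hcent, hnorm⟩ := hX
  -- elements of the determinant one part
  have mj : bd ((1 : GL ι K), (-1 : GL ι K)) ∈ wreath S := ⟨1, one_mem S, -1, hneg, Or.inl rfl⟩
  have dj : Gdet (bd ((1 : GL ι K), (-1 : GL ι K))) = 1 := by
    rw [det_bd, map_one, one_mul]
    exact Units.ext (by simp [det_neg, hι.neg_one_pow])
  have msw : (sw : GL (ι ⊕ ι) K) ∈ wreath S :=
    ⟨1, one_mem S, 1, one_mem S, Or.inr (by rw [show ((1 : GL ι K), (1 : GL ι K)) = 1 from rfl, map_one, one_mul])⟩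
  have m1 : ∀ s ∈ S, bd (s, (1 : GL ι K)) ∈ wreath S := fun s hs => ⟨s, hs, 1, one_mem S, Or.inl rfl⟩
  have d1 : ∀ s : GL ι K, Gdet s = 1 → Gdet (bd (s, (1 : GL ι K))) = 1 := fun s hs => by
    rw [det_bd, hs, map_one, one_mul]
  have d1' : ∀ s : GL ι K, Gdet s = 1 → Gdet (bd ((1 : GL ι K), s)) = 1 := fun s hs => by
    rw [det_bd, hs, map_one, one_mul]
  -- the centraliser
  have hC : ∀ M : Matrix (ι ⊕ ι) (ι ⊕ ι) K,
      (∀ t ∈ wreath S, Gdet t = 1 → M * (t : Matrix _ _ K) = (t : Matrix _ _ K) * M) → IsScal M := by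
    intro M hM
    rw [← fromBlocks_toBlocks M] at hM ⊢
    set A := M.toBlocks₁₁
    set B := M.toBlocks₁₂
    set C := M.toBlocks₂₁
    set D := M.toBlocks₂₂
    have ej := hM _ mj dj
    rw [coe_bd, fromBlocks_multiply, fromBlocks_multiply, fromBlocks_inj] at ej
    simp only [Units.val_one, Units.val_neg, Matrix.mul_one, Matrix.one_mul, Matrix.mul_zero, Matrix.zero_mul,
      Matrix.mul_neg, Matrix.neg_mul, add_zero, zero_add] at ej
    have hB : B = 0 := by
      have := ej.2.1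
      ext i j
      have e := congrFun (congrFun this i) j
      simp only [Matrix.neg_apply] at e
      exact (mul_eq_zero.1 (show (2 : K) * B i j = 0 by linear_combination -e)).resolve_left h2
    have hC0 : C = 0 := by
      have := ej.2.2.1
      ext i j
      have e := congrFun (congrFun this i) j
      simp only [Matrix.neg_apply] at e
      exact (mul_eq_zero.1 (show (2 : K) * C i j = 0 by linear_combination e)).resolve_left h2
    rw [hB, hC0] at hM ⊢
    obtain ⟨a, ha⟩ := hcent A fun s hs hd => by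
      have e := hM _ (m1 s hs) (d1 s hd)
      rw [coe_bd, fromBlocks_multiply, fromBlocks_multiply, fromBlocks_inj] at e
      simpa using e.1
    have e := hM _ msw (det_sw hι)
    rw [coe_sw, fromBlocks_multiply, fromBlocks_multiply, fromBlocks_inj] at e
    have hAD : A = D := by simpa using e.2.1
    refine ⟨a, ?_⟩
    rw [← hAD, ha, ← fromBlocks_one, fromBlocks_smul, smul_zero]
  have hTY : wreath S ≤ Y := by
    rintro _ ⟨a, ha, b, hb, rfl | rfl⟩
    · exact (hbd a b).2 ⟨hSX ha, hSX hb⟩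
    · exact mul_mem ((hbd a b).2 ⟨hSX ha, hSX hb⟩) hsw
  have hTcard : Nat.card (wreath S) = 2 ^ (Nat.card Y).factorization 2 := by
    rw [card_wreath, hScard, hcard, pow_succ, pow_mul']
    ring
  have hnegT : -1 ∈ wreath S := ⟨-1, hneg, -1, hneg, Or.inl bd_neg_one.symm⟩
  refine ⟨wreath S, hTY, hTcard, hnegT, hC, ?_⟩
  intro g hgY hgo hgn
  set j := bd ((1 : GL ι K), (-1 : GL ι K)) with hj
  -- normalisation also by the inverse
  let W : Subgroup (GL (ι ⊕ ι) K) := wreath S ⊓ MonoidHom.ker Gdet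
  have hW : ∀ t ∈ W, g * t * g⁻¹ ∈ W := fun t ht => ⟨hgn t ht.1 ht.2, by
    show Gdet (g * t * g⁻¹) = 1
    rw [map_mul, map_mul, map_inv, show Gdet t = 1 from ht.2, mul_one, mul_inv_cancel]⟩
  haveI : Finite W := inferInstance
  have hW' : ∀ t ∈ W, ∃ t' ∈ W, t = g * t' * g⁻¹ := by
    intro t ht
    let f : W → W := fun t => ⟨g * t.1 * g⁻¹, hW t.1 t.2⟩
    have hfi : Function.Injective f := fun x y h =>
      Subtype.ext (mul_left_cancel (mul_right_cancel (congrArg Subtype.val h)))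
    obtain ⟨t', ht'⟩ := (Finite.injective_iff_surjective.1 hfi) ⟨t, ht⟩
    exact ⟨t'.1, t'.2, (congrArg Subtype.val ht').symm⟩
  set x := g * j * g⁻¹ with hx
  have hxW : x ∈ W := hW j ⟨mj, dj⟩
  have hnc : ∀ t ∈ wreath S, j * t = t * j ∨ j * t = -(t * j) := by
    rintro _ ⟨a, ha, b, hb, rfl | rfl⟩
    · left; rw [hj, bd_mul, bd_mul, one_mul, mul_one, neg_one_mul, mul_neg_one]
    · right
      rw [hj, ← mul_assoc, bd_mul, mul_assoc (bd (a, b)), sw_bd, ← mul_assoc, bd_mul, one_mul, neg_one_mul,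
        mul_neg_one, mul_one, ← neg_mul, neg_bd, neg_neg]
  have hxc : ∀ t ∈ W, x * t = t * x ∨ x * t = -(t * x) := by
    intro t ht
    obtain ⟨t', ht', rfl⟩ := hW' t ht
    have e1 : x * (g * t' * g⁻¹) = g * (j * t') * g⁻¹ := by rw [hx]; group
    have e2 : g * t' * g⁻¹ * x = g * (t' * j) * g⁻¹ := by rw [hx]; group
    rw [e1, e2]
    rcases hnc t' ht'.1 with h | h
    · left; rw [h]
    · right; rw [h, mul_neg, neg_mul]
  have hexists : ∃ s ∈ S, Gdet s = 1 ∧ s ≠ 1 ∧ s ≠ -1 := by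
    by_contra hall
    push Not at hall
    obtain ⟨i, k, hik⟩ := exists_pair_ne ι
    obtain ⟨c, hc⟩ := hcent (Matrix.single i k (1 : K)) fun s hs hd => by
      by_cases h : s = 1
      · simp [h]
      · simp [hall s hs hd h]
    have := congrFun (congrFun hc i) k
    simp [hik] at this
  obtain ⟨s0, hs0, hd0, hs01, hs0n⟩ := hexists
  obtain ⟨u, hu, v, hv, hxuv | hxuv⟩ := hxW.1
  swap
  · -- antidiagonal: impossible
    exfalso
    have h := hxc _ (⟨m1 s0 hs0, d1 s0 hd0⟩ : bd (s0, (1 : GL ι K)) ∈ W)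
    have el : x * bd (s0, (1 : GL ι K)) = bd (u * 1, v * s0) * sw := by
      rw [hxuv, mul_assoc, sw_bd, ← mul_assoc, bd_mul]
    have er : bd (s0, (1 : GL ι K)) * x = bd (s0 * u, 1 * v) * sw := by
      rw [hxuv, ← mul_assoc, bd_mul]
    rw [el, er] at h
    rcases h with h | h
    · have := (bd_inj (mul_right_cancel h)).2
      rw [one_mul] at this
      exact hs01 (mul_left_cancel (this.trans (mul_one v).symm))
    · rw [← neg_mul, neg_bd] at h
      have := (bd_inj (mul_right_cancel h)).2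
      rw [one_mul] at this
      exact hs0n (mul_left_cancel (this.trans (mul_neg_one v).symm))
  have hub : IsScal (u : Matrix ι ι K) := hcent _ fun s hs hd => by
    have h := hxc _ (⟨m1 s hs, d1 s hd⟩ : bd (s, (1 : GL ι K)) ∈ W)
    rw [hxuv, bd_mul, bd_mul] at h
    rcases h with h | h
    · exact congrArg Units.val (bd_inj h).1
    · rw [neg_bd] at h
      have := (bd_inj h).2
      rw [mul_one, one_mul] at this
      exact absurd this (ne_neg_self h2 v)
  have hvb : IsScal (v : Matrix ι ι K) := hcent _ fun s hs hd => by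
    have h := hxc _ (⟨⟨1, one_mem S, s, hs, Or.inl rfl⟩, d1' s hd⟩ : bd ((1 : GL ι K), s) ∈ W)
    rw [hxuv, bd_mul, bd_mul] at h
    rcases h with h | h
    · exact congrArg Units.val (bd_inj h).2
    · rw [neg_bd] at h
      have := (bd_inj h).1
      rw [mul_one, one_mul] at this
      exact absurd this (ne_neg_self h2 u)
  have hu2 : u * u = 1 := by
    have hjj : j * j = 1 := by rw [hj, bd_mul, one_mul, neg_one_mul, neg_neg]; exact map_one bd
    have hxx : x * x = 1 := by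
      rw [hx, show g * j * g⁻¹ * (g * j * g⁻¹) = g * (j * j) * g⁻¹ by group, hjj]
      group
    rw [hxuv, bd_mul, ← (map_one bd : bd (1 : GL ι K × GL ι K) = 1)] at hxx
    exact (bd_inj hxx).1
  have huv : v = -u := by
    have h := hxc _ (⟨msw, det_sw hι⟩ : (sw : GL (ι ⊕ ι) K) ∈ W)
    rw [hxuv, sw_bd] at h
    rcases h with h | h
    · exfalso
      have e := (bd_inj (mul_right_cancel h)).1
      obtain ⟨c, hc⟩ := hub
      have hxs : IsScal (x : Matrix (ι ⊕ ι) (ι ⊕ ι) K) := ⟨c, by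
        rw [hxuv, ← e, coe_bd, hc, ← fromBlocks_one, fromBlocks_smul, smul_zero]⟩
      have e2 : x * g = g * x := Units.ext (hxs.commute _)
      have ej : j = x := by
        have : g⁻¹ * x * g = j := by rw [hx]; group
        rw [mul_assoc, e2, ← mul_assoc, inv_mul_cancel, one_mul] at this
        exact this.symm
      rw [hxuv, ← e, hj] at ej
      obtain ⟨e3, e4⟩ := bd_inj ej
      exact neg_one_ne_one (ι := ι) h2 (e4.trans e3.symm)
    · rw [← neg_mul, neg_bd] at h
      have e := (bd_inj (mul_right_cancel h)).1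
      rw [e, neg_neg]
  have hu1 : u = 1 ∨ u = -1 := by
    obtain ⟨c, hc⟩ := hub
    obtain ⟨i⟩ := (inferInstance : Nonempty ι)
    have h := congrArg (fun x : GL ι K => (x : Matrix ι ι K) i i) hu2
    rw [Units.val_mul, hc] at h
    simp at h
    have hc1 : (c - 1) * (c + 1) = 0 := by linear_combination h
    rcases mul_eq_zero.1 hc1 with h | h
    · left; exact Units.ext (by rw [hc, sub_eq_zero.1 h, one_smul, Units.val_one])
    · right; exact Units.ext (by rw [hc, eq_neg_of_add_eq_zero_left h, neg_smul, one_smul, Units.val_neg, Units.val_one])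
  -- `g` commutes with `j`
  have hgj : g * j * g⁻¹ = j := by
    rcases hu1 with rfl | rfl
    · rw [← hx, hxuv, huv]
    exfalso
    have hxj : g * j * g⁻¹ = -j := by
      rw [← hx, hxuv, huv, neg_neg, hj, neg_bd, neg_neg]
    have hk : ∀ k : ℕ, g ^ k * j * (g ^ k)⁻¹ = if Even k then j else -j := by
      intro k
      induction k with
      | zero => simp
      | succ k ih =>
        rw [pow_succ', _root_.mul_inv_rev, show g * g ^ k * j * ((g ^ k)⁻¹ * g⁻¹) = g * (g ^ k * j * (g ^ k)⁻¹) * g⁻¹ by group, ih]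
        rcases Nat.even_or_odd k with he | ho
        · rw [if_pos he, if_neg (by simpa [Nat.even_add_one] using he), hxj]
        · rw [if_neg (Nat.not_even_iff_odd.2 ho), if_pos (by simpa [Nat.even_add_one] using Nat.not_even_iff_odd.2 ho),
            mul_neg, neg_mul, hxj, neg_neg]
    have h := hk (orderOf g)
    rw [pow_orderOf_eq_one, if_neg (Nat.not_even_iff_odd.2 hgo), one_mul, inv_one, mul_one] at h
    exact ne_neg_self h2 j h
  have hgj' : g * j = j * g := mul_inv_eq_iff_eq_mul.1 hgj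
  obtain ⟨g1, g2, rfl⟩ : ∃ g1 g2, g = bd (g1, g2) := by
    have e := congrArg Units.val hgj'
    rw [Units.val_mul, Units.val_mul, hj, coe_bd] at e
    set M := (g : Matrix (ι ⊕ ι) (ι ⊕ ι) K) with hMdef
    rw [← fromBlocks_toBlocks M, fromBlocks_multiply, fromBlocks_multiply, fromBlocks_inj] at e
    simp only [Units.val_one, Units.val_neg, Matrix.mul_one, Matrix.one_mul, Matrix.mul_zero, Matrix.zero_mul,
      Matrix.mul_neg, Matrix.neg_mul, add_zero, zero_add] at e
    have hB : M.toBlocks₁₂ = 0 := by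
      ext i k
      have e' := congrFun (congrFun e.2.1 i) k
      simp only [Matrix.neg_apply] at e'
      exact (mul_eq_zero.1 (show (2 : K) * M.toBlocks₁₂ i k = 0 by linear_combination -e')).resolve_left h2
    have hC0 : M.toBlocks₂₁ = 0 := by
      ext i k
      have e' := congrFun (congrFun e.2.2.1 i) k
      simp only [Matrix.neg_apply] at e'
      exact (mul_eq_zero.1 (show (2 : K) * M.toBlocks₂₁ i k = 0 by linear_combination e')).resolve_left h2
    have hM : M = fromBlocks M.toBlocks₁₁ 0 0 M.toBlocks₂₂ := by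
      conv_lhs => rw [← fromBlocks_toBlocks M, hB, hC0]
    have hdet : M.toBlocks₁₁.det * M.toBlocks₂₂.det ≠ 0 := by
      rw [← det_fromBlocks_zero₂₁ M.toBlocks₁₁ 0 M.toBlocks₂₂, ← hM, hMdef]
      exact ((Matrix.isUnit_iff_isUnit_det _).1 g.isUnit).ne_zero
    refine ⟨GeneralLinearGroup.mkOfDetNeZero _ (left_ne_zero_of_mul hdet),
      GeneralLinearGroup.mkOfDetNeZero _ (right_ne_zero_of_mul hdet), Units.ext ?_⟩
    rw [coe_bd]
    exact hM
  obtain ⟨hg1, hg2⟩ := (hbd g1 g2).1 hgY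
  have hpow : g1 ^ orderOf (bd (g1, g2)) = 1 ∧ g2 ^ orderOf (bd (g1, g2)) = 1 := by
    have := pow_orderOf_eq_one (bd (g1, g2))
    nth_rewrite 1 [← map_pow] at this
    rw [← (map_one bd : bd (1 : GL ι K × GL ι K) = 1)] at this
    exact bd_inj this
  have ho1 := Odd.of_dvd_nat hgo (orderOf_dvd_of_pow_eq_one hpow.1)
  have ho2 := Odd.of_dvd_nat hgo (orderOf_dvd_of_pow_eq_one hpow.2)
  have key : ∀ s ∈ S, g1 * s * g1⁻¹ ∈ S ∧ g2 * s * g2⁻¹ ∈ S := by
    intro s hs
    have hcases : ∀ a ∈ S, ∀ b ∈ S, Gdet a * Gdet b = 1 → g1 * a * g1⁻¹ ∈ S ∧ g2 * b * g2⁻¹ ∈ S := by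
      intro a ha b hb hd
      have h := hgn (bd (a, b)) ⟨a, ha, b, hb, Or.inl rfl⟩ (by rw [det_bd, hd])
      rw [bd_mul, bd_inv, bd_mul] at h
      obtain ⟨a', ha', b', hb', h | h⟩ := h
      · obtain ⟨e1, e2⟩ := bd_inj h
        exact ⟨e1 ▸ ha', e2 ▸ hb'⟩
      · exact absurd h (bd_ne_bd_sw _ _ _ _)
    exact ⟨(hcases s hs s⁻¹ (inv_mem hs) (by rw [map_inv, mul_inv_cancel])).1,
      (hcases s⁻¹ (inv_mem hs) s hs (by rw [map_inv, inv_mul_cancel])).2⟩
  have hs1 := hnorm g1 hg1 ho1 fun s hs => (key s hs).1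
  have hs2 := hnorm g2 hg2 ho2 fun s hs => (key s hs).2
  have h := hgn sw msw (det_sw hι)
  rw [bd_scal_sw_conj g1 g2 hs1 hs2] at h
  obtain ⟨a', ha', b', hb', h | h⟩ := h
  · exact absurd h.symm (bd_ne_bd_sw _ _ _ _)
  have e1 := (bd_inj (mul_right_cancel h)).1
  have hd1 : (g1 * g2⁻¹) ^ 2 ^ (Nat.card X).factorization 2 = 1 := by
    have := Subgroup.orderOf_dvd_natCard S (e1 ▸ ha' : g1 * g2⁻¹ ∈ S)
    rwa [hScard, orderOf_dvd_iff_pow_eq_one] at this
  have hcomm : Commute g1 g2⁻¹ := Units.ext (hs1.commute _)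
  have hd2 : (g1 * g2⁻¹) ^ (orderOf g1 * orderOf g2) = 1 := by
    rw [hcomm.mul_pow, pow_mul, pow_orderOf_eq_one, one_pow, one_mul, inv_pow, mul_comm (orderOf g1), pow_mul,
      pow_orderOf_eq_one, one_pow, inv_one]
  have h12 : g1 = g2 := by
    have := pow_gcd_eq_one.2 ⟨hd1, hd2⟩
    rw [(Nat.Coprime.pow_left _ (ho1.mul ho2).coprime_two_left).gcd_eq_one, pow_one] at this
    exact mul_inv_eq_one.1 this
  subst h12
  obtain ⟨c, hc⟩ := hs1
  exact ⟨c, by rw [coe_bd, hc, ← fromBlocks_one, fromBlocks_smul, smul_zero]⟩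

end CfsgLib.KnownC.Pronormal
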